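import Groth.Agent.RedSub.H666.EtInput
import Groth.Agent.RedSub.H667.SplitConst
import Groth.Agent.RedSub.H667.Glue85
import Groth.Agent.Sga3B.MT.Final824
import Groth.Agent.Sga3B.SplitFin885
import Groth.Agent.Sga3B.MaxTorBc636
import Groth.Agent.Sga3B.RedBcAny636
import Groth.Agent.Sga3B.SplitBc264b
import Groth.Agent.Sga3B.SplitIso848

/-!
# Isotriviality of semisimple groups over a semilocal ring
-/

set_option autoImplicit false
universe u
open CategoryTheory MonoidalCategory CartesianMonoidalCategory MonObj GrpObj AlgebraicGeometry Limits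
open scoped TensorProduct
open WithConv

namespace Groth.Agent.RedSub.H666.Assem

open Groth.Agent.Sga3A.MTBasis Groth.Agent.RedSub.H666.SpOf Groth.Agent.Sga3A
open Groth.Agent.Sga3B Groth.Agent.Sga3B.RootCoact Groth.Agent.Sga3B.RootOrb Groth.Agent.Sga3B.RootGr
open Groth.Agent.Sga3B.RootCert Groth.Agent.Sga3B.RootBC136 Groth.Agent.Sga3B.RootWt136
open Groth.Agent.Sga3B.RootFinal136 Groth.Agent.RedSub.H666.WtB Groth.Agent.RedSub.H666.HasWts
open Groth.Agent.RedSub.H666.IsoTors Groth.Agent.RedSub.H666.IsoTors2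
open Groth.Agent.RedSub.H666.IsoTors3 Groth.Agent.RedSub.H666.IsoTors4
open Groth.Agent.RedSub.H666.IsoTors5 Groth.Agent.Books.AffBridge
open Groth.Agent.RedSub.H666.EtInput
open Groth.Agent.Sga3B.BcSpec144 Groth.Agent.Sga3B.BcTor144

variable {R : Type u} [CommRing R]
variable {G T : Over (Spec (CommRingCat.of R))} [GrpObj G] [GrpObj T]

/-- The type at an arbitrary geometric point. -/
theorem isSplitOfType_geom {idx M N : Type} [AddCommGroup M] [AddCommGroup N]
    (Q : RootPairing idx ℤ M N)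
    (htype : ∀ s : Spec (CommRingCat.of R), Red.IsSplitOfType Q (Red.geomFibre s G))
    (K : Type u) [Field K] [IsAlgClosed K] [Algebra R K] :
    Red.IsSplitOfType Q (Red.bc (fK R K) G) := by
  obtain ⟨s, θ, hθ⟩ := MaxTorBc636.exists_fac_geomPt (fK R K)
  rw [← hθ]
  obtain ⟨D, hD⟩ := SplitBc264.isSplitOfType_bc θ Q (htype s)
  exact ⟨SplitIso848.splitOfIso (BcIso.bcCompIso θ (Red.geomPt s) G).symm D, hD⟩

variable {A B : Type u} [CommRing A] [HopfAlgebra R A] [CommRing B] [HopfAlgebra R B]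

/-- The main construction. -/
theorem exists_splitting [Algebra.Smooth R A] (hR : {m : Ideal R | m.IsMaximal}.Finite)
    (hG : Red.IsReductive G) (i : T ⟶ G) (hT : Red.IsMaximalTorus i)
    (e : G ≅ SpecOver R A) [IsMonHom e.hom] (eT : T ≅ SpecOver R B) [IsMonHom eT.hom]
    (q : A →ₐc[R] B) (hq : i ≫ e.hom = eT.hom ≫ specMap R (q : A →ₐ[R] B))
    {M₀ : Type} [AddCommGroup M₀] [Module.Finite ℤ M₀] [Module.Free ℤ M₀] (Φ₀ : Finset M₀)
    (h0 : (0 : M₀) ∉ Φ₀)
    (hspan : ∃ d : ℕ, d ≠ 0 ∧ ∀ m : M₀, d • m ∈ AddSubgroup.closure (Φ₀ : Set M₀))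
    (hF : FieldType q (Φ₀ : Set M₀)) (Γ : Subgroup (MulAut (Multiplicative M₀))) [Finite Γ]
    (hΓ : ∀ w, w ∈ Γ ↔ ∀ m : M₀, Multiplicative.toAdd (w (Multiplicative.ofAdd m)) ∈ Φ₀ ↔ m ∈ Φ₀) :
    ∃ (R' : Type u) (_ : CommRing R') (_ : Algebra R R') (_ : Algebra.Etale R R')
      (_ : Module.Finite R R') (_ : Module.FaithfullyFlat R R'),
      Nonempty (Red.SplitRed (Red.bc (fK R R') G)) := by
  classical
  have := Fintype.ofFinite Γ
  have hTB : Red.IsTorus (SpecOver R B) := TorusBc.isTorus_of_iso (Grp.mkIso' eT) hT.2.2.1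
  obtain ⟨S, _, _, _, _, g, hg⟩ := exists_global (q := q) hTB hR h0 hF
  -- the monodromy group
  have hmono : Mono g Γ := by
    intro K _ _ _ u v w hc
    rw [hΓ]
    intro m
    by_cases hm : m = 0
    · subst hm
      have : (w (Multiplicative.ofAdd (0 : M₀))) = Multiplicative.ofAdd 0 := map_one w
      rw [this]
      rfl
    · exact mem_iff_of_cmp hg hc m hm
  -- a generating set
  obtain ⟨Z, hZ⟩ : ∃ Z : Finset (Multiplicative M₀),
      Subgroup.closure (Z : Set (Multiplicative M₀)) = ⊤ := by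
    have h1 : AddGroup.FG M₀ := Module.Finite.iff_addGroup_fg.1 inferInstance
    have h2 : Group.FG (Multiplicative M₀) := inferInstance
    exact Group.fg_def.1 h2
  have hflatB : Module.Flat R B := by
    have h1 : Smooth (SpecOver R B).hom := TorusAlgClosed.smooth_of_isTorus hTB
    have h : RingHom.Smooth (algebraMap R B) := (HasRingHomProperty.Spec_iff (P := @Smooth)).1 h1
    rw [RingHom.smooth_algebraMap] at h
    infer_instance
  obtain ⟨g₀, hg₀⟩ := exists_hasWts_EP (q := q) hg (fun w hw => (hΓ w).1 hw) hmono Z hZ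
  have het := etale_EP (g := g) (Γ := Γ) Z hmono hZ
  have hfin := finite_EP (g := g) (Γ := Γ) Z hmono hZ
  have hff := ff_EP (g := g) (Γ := Γ) Z hmono hZ
  refine ⟨EP g Z Γ, inferInstance, inferInstance, het, hfin, hff, ?_⟩
  generalize EP g Z Γ = R' at *
  have hpic : Subsingleton (CommRing.Pic R') := by
    exact H667.SplitConst.subsingleton_pic (H667.BcTorsor.finite_maximal_of_finite (A := R) hR)
  have hG' : Red.IsReductive (Red.bc (fK R R') G) := RedBcAny636.isReductive_bc (fK R R') hG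
  have hT' : Red.IsMaximalTorus ((Over.pullback (fK R R')).map i) :=
    MaxTorBc636.isMaximalTorus_bc (fK R R') hG hT
  have hiso : IsMonHom (eK R' eT).hom := inferInstance
  obtain ⟨D, -⟩ := H667.SplitConst.exists_splitRed_of_cert hG' ((Over.pullback (fK R R')).map i) hT'
    (spOf (eK R' eT) g₀) (eK R' e) (pB q g₀)
    (hp_spOf ((Over.pullback (fK R R')).map i) (eK R' eT) (eK R' e) (BCIso.mapBialg R' q)
      (map_comp_eK R' i eT e q hq) g₀)
    Φ₀ h0 (fun K _ _ _ m hm => hg₀.bcP K m hm) hspan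
  exact ⟨D⟩

end Groth.Agent.RedSub.H666.Assem
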