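import Groth.Agent.RedSub.H666.HasWts
import Groth.Agent.Sga3B.TorusEtLoc920
import Mathlib.RingTheory.Smooth.Flat

/-!
# Étale-local splitting of the torus with constant set of roots
-/

set_option autoImplicit false
universe u
open CategoryTheory MonoidalCategory CartesianMonoidalCategory MonObj GrpObj AlgebraicGeometry Limits
open scoped TensorProduct
open WithConv

namespace Groth.Agent.RedSub.H666.EtInput

open Groth.Agent.Sga3A.MTBasis Groth.Agent.RedSub.H666.SpOf Groth.Agent.Sga3A
open Groth.Agent.Sga3B Groth.Agent.Sga3B.RootCoact Groth.Agent.Sga3B.RootOrb Groth.Agent.Sga3B.RootGr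
open Groth.Agent.Sga3B.RootCert Groth.Agent.Sga3B.RootBC136 Groth.Agent.Sga3B.RootWt136
open Groth.Agent.Sga3B.RootFinal136 Groth.Agent.RedSub.H666.WtB Groth.Agent.RedSub.H666.HasWts
open Groth.Agent.RedSub.H666.IsoTors Groth.Agent.RedSub.H666.IsoTors2
open Groth.Agent.RedSub.H666.IsoTors3 Groth.Agent.RedSub.H666.IsoTors4
open Groth.Agent.RedSub.H666.IsoTors5 Groth.Agent.Books.AffBridge

variable {R : Type u} [CommRing R] {A B : Type u} [CommRing A] [HopfAlgebra R A]
  [CommRing B] [HopfAlgebra R B] (q : A →ₐc[R] B)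

/-- The field-level input: with respect to any basis over an algebraically closed field the
roots are `Φ₀`, up to an isomorphism. -/
def FieldType {M₀ : Type} [AddCommGroup M₀] (Φ₀ : Set M₀) : Prop :=
  ∀ (K : Type u) [Field K] [IsAlgClosed K] [Algebra R K] (r : ℕ)
    (b : GBasis K (K ⊗[R] B) (Multiplicative (Fin r → ℤ))),
    ∃ φ : (Fin r → ℤ) ≃+ M₀, ∀ m, m ≠ 0 → (IsWt (pB q b) m ↔ φ m ∈ Φ₀)

variable {q}

/-- an étale neighbourhood over which the torus is split -/
theorem exists_etale_gbasis (hT : Red.IsTorus (SpecOver R B)) (s : PrimeSpectrum R) :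
    ∃ (C : Type u) (_ : CommRing C) (_ : Algebra R C) (_ : Algebra.Etale R C) (c : PrimeSpectrum C)
      (r : ℕ) (_ : GBasis C (C ⊗[R] B) (Multiplicative (Fin r → ℤ))),
      c.comap (algebraMap R C) = s := by
  obtain ⟨C, _, v, r, hv, ⟨c, hc⟩, hsp⟩ := TorusEtLoc920.exists_etale_split_specOver hT s
  let φ : CommRingCat.of R ⟶ CommRingCat.of C := Spec.preimage v
  let _ : Algebra R C := φ.hom.toAlgebra
  have hφ : Spec.map (CommRingCat.ofHom (algebraMap R C)) = v := Spec.map_preimage _
  rw [← hφ] at hv hc hsp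
  have het : Algebra.Etale R C := by
    rw [HasRingHomProperty.Spec_iff (P := @Etale)] at hv
    simp only [CommRingCat.hom_ofHom] at hv
    exact RingHom.etale_algebraMap.mp hv
  obtain ⟨g⟩ := (TorusEtLoc920.isSplit_iff r).mp hsp
  exact ⟨C, inferInstance, inferInstance, het, c, r, g.reindex MulEquiv.ulift, hc⟩

/-- an étale neighbourhood over which the torus is split and the set of roots is constant -/
theorem exists_local [Algebra.Smooth R A] (hT : Red.IsTorus (SpecOver R B))
    {M₀ : Type} [AddCommGroup M₀] {Φ₀ : Set M₀} (h0 : (0 : M₀) ∉ Φ₀) (hF : FieldType q Φ₀)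
    (s : PrimeSpectrum R) :
    ∃ (C : Type u) (_ : CommRing C) (_ : Algebra R C) (_ : Algebra.Etale R C) (c : PrimeSpectrum C)
      (b : GBasis C (C ⊗[R] B) (Multiplicative M₀)),
      c.comap (algebraMap R C) = s ∧ HasWts q b Φ₀ := by
  obtain ⟨C₀, _, _, _, c₀, r, b₀, hc₀⟩ := exists_etale_gbasis hT s
  obtain ⟨Φ, w, hw, hΦ0, hΦ⟩ := exists_hasWts_nhd (q := q) b₀ c₀
  let C := Localization.Away w
  have het : Algebra.Etale C₀ C := inferInstance
  have het' : Algebra.Etale R C := Algebra.Etale.comp R C₀ C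
  obtain ⟨c, hc⟩ : c₀ ∈ Set.range (PrimeSpectrum.comap (algebraMap C₀ C)) := by
    rw [PrimeSpectrum.localization_away_comap_range C w]
    exact hw
  let b := b₀.bc (IsScalarTower.toAlgHom R C₀ C)
  -- a geometric point of `C`
  let k := c.asIdeal.ResidueField
  let K := AlgebraicClosure k
  obtain ⟨φ, hφ⟩ := hF K r (b.bc (IsScalarTower.toAlgHom R C K))
  refine ⟨C, inferInstance, inferInstance, het', c, b.reindex (AddEquiv.toMultiplicative φ), ?_,
    hΦ.reindex φ ?_⟩
  · rw [← hc₀, ← hc]
    rw [IsScalarTower.algebraMap_eq R C₀ C, PrimeSpectrum.comap_comp]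
    rfl
  · intro m
    by_cases hm : m = 0
    · subst hm
      rw [map_zero]
      exact iff_of_false h0 hΦ0
    · rw [← hφ m hm]
      exact hΦ K _ m hm

/-- **The étale-local input**: a faithfully flat étale algebra over which there is a basis
with the given set of roots. -/
theorem exists_global [Algebra.Smooth R A] (hT : Red.IsTorus (SpecOver R B))
    (hR : {m : Ideal R | m.IsMaximal}.Finite)
    {M₀ : Type} [AddCommGroup M₀] {Φ₀ : Set M₀} (h0 : (0 : M₀) ∉ Φ₀) (hF : FieldType q Φ₀) :
    ∃ (S : Type u) (_ : CommRing S) (_ : Algebra R S) (_ : Algebra.Etale R S)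
      (_ : Module.FaithfullyFlat R S) (g : GBasis S (S ⊗[R] B) (Multiplicative M₀)),
      HasWts q g Φ₀ := by
  classical
  have hfin : Finite (MaximalSpectrum R) := by
    have := hR.to_subtype
    exact Finite.of_injective (β := {m : Ideal R | m.IsMaximal}) (fun m => ⟨m.asIdeal, m.isMaximal⟩)
      fun m m' h => MaximalSpectrum.ext (congrArg Subtype.val h)
  choose C h1 h2 h3 c b hc hb using fun m : MaximalSpectrum R =>
    exists_local (q := q) hT h0 hF m.toPrimeSpectrum
  let S := ∀ m, C m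
  have hflat : Module.Flat R S := inferInstance
  refine ⟨S, inferInstance, inferInstance, inferInstance, ⟨?_⟩, piBasis b, HasWts.pi hb⟩
  intro m hm htop
  rw [Ideal.smul_top_eq_map] at htop
  have h4 : (m.map (algebraMap R S)) = ⊤ := (Submodule.restrictScalars_eq_top_iff _ _ _).1 htop
  have h5 : (m.map (algebraMap R S)).map (Pi.evalRingHom C ⟨m, hm⟩) = ⊤ := by
    rw [h4, Ideal.map_top]
  rw [Ideal.map_map] at h5
  have h6 : (m.map (algebraMap R (C ⟨m, hm⟩))) ≤ (c ⟨m, hm⟩).asIdeal := by
    rw [Ideal.map_le_iff_le_comap]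
    have := congrArg PrimeSpectrum.asIdeal (hc ⟨m, hm⟩)
    exact this.ge
  exact (c ⟨m, hm⟩).isPrime.ne_top (top_le_iff.1 (h5.ge.trans h6))

end Groth.Agent.RedSub.H666.EtInput
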