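import Groth.Agent.RedSub.H666.Assem
import Groth.Agent.RedSub.H161.RootSpan
import Groth.Agent.RedSub.H161.StabFin
import Groth.Agent.RedSub.H161.FinEt

/-!
# Isotriviality of semisimple groups over a semilocal ring, final assembly
-/

set_option autoImplicit false
universe u
open CategoryTheory MonoidalCategory CartesianMonoidalCategory MonObj GrpObj AlgebraicGeometry Limits
open scoped TensorProduct
open WithConv

namespace Groth.Agent.RedSub.H666.Final

open Groth.Agent.Sga3A.MTBasis Groth.Agent.RedSub.H666.SpOf Groth.Agent.Sga3A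
open Groth.Agent.Sga3B Groth.Agent.Sga3B.RootCoact Groth.Agent.Sga3B.RootOrb Groth.Agent.Sga3B.RootGr
open Groth.Agent.Sga3B.RootCert Groth.Agent.Sga3B.RootBC136 Groth.Agent.Sga3B.RootWt136
open Groth.Agent.Sga3B.RootFinal136 Groth.Agent.RedSub.H666.WtB Groth.Agent.RedSub.H666.HasWts
open Groth.Agent.RedSub.H666.IsoTors Groth.Agent.RedSub.H666.IsoTors2
open Groth.Agent.RedSub.H666.IsoTors3 Groth.Agent.RedSub.H666.IsoTors4
open Groth.Agent.RedSub.H666.IsoTors5 Groth.Agent.Books.AffBridge
open Groth.Agent.RedSub.H666.EtInput Groth.Agent.RedSub.H666.Assem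
open Groth.Agent.Sga3B.BcSpec144 Groth.Agent.Sga3B.BcTor144
open Groth.Agent.Sga3B.AffPts Groth.Agent.Sga3B.DSAff

/-- The field-level comparison. -/
def FieldCmp : Prop :=
  ∀ {K : Type u} [Field K] [IsAlgClosed K] {A : Type u} [CommRing A] [HopfAlgebra K A]
    [Algebra.Smooth K A] {G T : Over (Spec (CommRingCat.of K))} [GrpObj G] [GrpObj T]
    (_ : Red.IsReductive G) (i : T ⟶ G) (_ : Red.IsMaximalTorus i)
    {M : Type} [AddCommGroup M] [Module.Finite ℤ M] [Module.Free ℤ M]
    (sp : Grp.mk T ≅ Grp.mk (Red.DS (Spec (CommRingCat.of K)) M)) (e : G ≅ SpecOver K A)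
    [IsMonHom e.hom]
    (p : A →ₐc[K] MonoidAlgebra K (Multiplicative M))
    (_ : ∀ (X : Over (Spec (CommRingCat.of K))) (t : X ⟶ T),
        t ≫ i ≫ e.hom = affPt X ((chAlg (fnChar (t ≫ sp.hom.hom.hom))).comp (p : A →ₐ[K] _)))
    {idx M₀ N₀ : Type} [Finite idx] [AddCommGroup M₀] [AddCommGroup N₀] [Module.Finite ℤ M₀]
    [Module.Free ℤ M₀] (Q : RootPairing idx ℤ M₀ N₀) (_ : Red.IsSplitOfType Q G),
    ∃ φ : M ≃+ M₀, ∀ m, m ≠ 0 → (IsWt p m ↔ φ m ∈ Set.range Q.root)

theorem main (hcmp : FieldCmp.{u}) {R : Type u} [CommRing R]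
    (hR : {m : Ideal R | m.IsMaximal}.Finite)
    (G : Over (Spec (CommRingCat.of R))) [GrpObj G] (hG : Red.IsSemisimple G)
    {idx M N : Type} [Finite idx] [AddCommGroup M] [AddCommGroup N] [Module.Finite ℤ M] [Module.Free ℤ M]
    (Q : RootPairing idx ℤ M N) (htype : ∀ s : Spec (CommRingCat.of R), Red.IsSplitOfType Q (Red.geomFibre s G)) :
    ∃ (S' : Scheme.{u}) (f : S' ⟶ Spec (CommRingCat.of R)), IsFinite f ∧ Etale f ∧ Surjective f ∧
      Nonempty (Red.SplitRed (Red.bc f G)) := by
  classical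
  have hGr : Red.IsReductive G := ⟨hG.1, hG.2.1, fun s => (hG.2.2 s).1⟩
  obtain ⟨T, _, i, hT, -⟩ := MT.exists_maximalTorus_semilocal hR hGr
    (fun s => SplitFin885.splitNear G hGr s)
  have hi : IsMonHom i := hT.1
  -- the Hopf algebras
  have : IsAffineHom G.hom := hG.1
  have haff : IsAffine G.left := isAffine_of_isAffineHom G.hom
  obtain ⟨A, _, _, e, he⟩ := exists_hopf R G
  have : IsAffineHom T.hom := TorusAlgClosed.isAffineHom_of_isTorus hT.2.2.1
  have haff' : IsAffine T.left := isAffine_of_isAffineHom T.hom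
  obtain ⟨B, _, _, eT, heT⟩ := exists_hopf R T
  have heT' : IsMonHom eT.inv := inferInstance
  obtain ⟨q, hq⟩ := exists_bialgHom_of_isMonHom R (eT.inv ≫ i ≫ e.hom)
  have hq' : i ≫ e.hom = eT.hom ≫ specMap R (q : A →ₐ[R] B) := by
    rw [hq, Iso.hom_inv_id_assoc]
  have hsm : Algebra.Smooth R A := by
    have h1 : Smooth G.hom := hG.2.1
    have h2 : Smooth (SpecOver R A).hom := by
      have h3 : (SpecOver R A).hom = e.inv.left ≫ G.hom := (Over.w e.inv).symm
      rw [h3]
      infer_instance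
    have h : RingHom.Smooth (algebraMap R A) := (HasRingHomProperty.Spec_iff (P := @Smooth)).1 h2
    rwa [RingHom.smooth_algebraMap] at h
  suffices h : ∃ (R' : Type u) (_ : CommRing R') (_ : Algebra R R') (_ : Algebra.Etale R R')
      (_ : Module.Finite R R') (_ : Module.FaithfullyFlat R R'),
      Nonempty (Red.SplitRed (Red.bc (fK R R') G)) by
    obtain ⟨R', _, _, _, _, _, hsp⟩ := h
    obtain ⟨h1, h2, h3⟩ := H161.FinEt.specMap_finite_etale_surjective R R'
    exact ⟨_, fK R R', h1, h2, h3, hsp⟩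
  rcases subsingleton_or_nontrivial R with hsub | hnt
  · -- the zero ring
    have : Finite (⊤ : Subgroup (MulAut (Multiplicative PUnit.{1}))) := by
      have : Subsingleton (MulAut (Multiplicative PUnit.{1})) :=
        ⟨fun a b => MulEquiv.ext fun x => Subsingleton.elim _ _⟩
      infer_instance
    refine exists_splitting (M₀ := PUnit.{1}) hR hGr i hT e eT q hq' ∅ (Finset.notMem_empty _)
      ⟨1, one_ne_zero, fun m => by rw [Subsingleton.elim (1 • m) 0]; exact zero_mem _⟩ ?_ ⊤ ?_
    · intro K _ _ _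
      exfalso
      have := (algebraMap R K).codomain_trivial
      exact not_subsingleton K this
    · intro w
      simp
  · obtain ⟨P, hP⟩ := Ideal.exists_maximal R
    let s : Spec (CommRingCat.of R) := (⟨P, hP.isPrime⟩ : PrimeSpectrum R)
    have hspan := H161.RootSpan.span_of_isSemisimpleOver _ (hG.2.2 s) Q (htype s)
    have hfin : (Set.range Q.root).Finite := Set.finite_range _
    have hst : Finite (H161.StabFin.stab (Set.range Q.root)) := H161.StabFin.finite_stab hfin hspan
    have h0 : (0 : M) ∉ Set.range Q.root := by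
      rintro ⟨a, ha⟩
      exact Q.ne_zero a ha
    refine exists_splitting hR hGr i hT e eT q hq' hfin.toFinset (by simpa using h0)
      (by simpa using hspan) ?_ (H161.StabFin.stab (Set.range Q.root)) ?_
    · intro K _ _ _ r b
      have hGK : Red.IsReductive (Red.bc (fK R K) G) := RedBcAny636.isReductive_bc (fK R K) hGr
      have hTK : Red.IsMaximalTorus ((Over.pullback (fK R K)).map i) :=
        MaxTorBc636.isMaximalTorus_bc (fK R K) hGr hT
      obtain ⟨φ, hφ⟩ := hcmp hGK ((Over.pullback (fK R K)).map i) hTK (spOf (eK K eT) b) (eK K e)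
        (pB q b) (hp_spOf ((Over.pullback (fK R K)).map i) (eK K eT) (eK K e) (BCIso.mapBialg K q)
          (map_comp_eK K i eT e q hq') b) Q (isSplitOfType_geom Q htype K)
      refine ⟨φ, fun m hm => ?_⟩
      rw [hφ m hm, Set.Finite.coe_toFinset]
    · intro w
      rw [H161.StabFin.mem_stab_iff]
      simp only [Set.Finite.mem_toFinset]

end Groth.Agent.RedSub.H666.Final
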