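import Groth.Agent.RedSub.H666.IsoTors4

/-!
# Isotriviality of groups of multiplicative type with finite monodromy, part 5

The main theorem `exists_isotrivial`.
-/

set_option autoImplicit false

open TensorProduct

namespace Groth.Agent.RedSub.H666.IsoTors5

open Groth.Agent.Sga3A Groth.Agent.Sga3A.MTBasis Groth.Agent.Sga3A.ModDesc IsoTors IsoTors2 IsoTors3
  IsoTors4

universe u

section

variable {R A S : Type u} [CommRing R] [CommRing A] [HopfAlgebra R A] [CommRing S] [Algebra R S]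
  {M : Type} [CommGroup M] {g : GBasis S (S ⊗[R] A) M}
  (X : Finset M) {Γ : Subgroup (MulAut M)} [Fintype Γ]
  (h : Mono g Γ) (hX : Subgroup.closure (X : Set M) = ⊤)

variable (g Γ) in
/-- The basis over `Γ → S` which is `g ∘ γ` on the factor `γ`. -/
noncomputable def gΓ : GBasis (Γ → S) ((Γ → S) ⊗[R] A) M :=
  piBasis (fun γ : Γ => g.reindex ((γ : MulAut M)⁻¹ : MulAut M))

lemma bc_gΓ (γ : Γ) (m : M) :
    bc A (Pi.evalAlgHom R (fun _ : Γ => S) γ) ((gΓ g Γ).b m) = g.b ((γ : MulAut M) m) := by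
  rw [gΓ, bc_piBasis, GBasis.reindex_b]
  rfl

/-- a homomorphism from a finite product of copies of `S` to a field factors through a projection -/
lemma exists_factor {K : Type u} [Field K] [Algebra R K] (j : (Γ → S) →ₐ[R] K) :
    ∃ (γ : Γ) (u : S →ₐ[R] K), j = u.comp (Pi.evalAlgHom R (fun _ : Γ => S) γ) := by
  classical
  have h1 : ∑ γ : Γ, j (Pi.single γ 1) = 1 := by
    rw [← map_sum, Finset.univ_sum_single (fun _ : Γ => (1 : S))]
    exact map_one j
  obtain ⟨γ, hγ⟩ : ∃ γ, j (Pi.single γ 1) ≠ 0 := by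
    by_contra hcon
    push Not at hcon
    simp only [hcon, Finset.sum_const_zero] at h1
    exact zero_ne_one h1
  have h2 : j (Pi.single γ 1) = 1 := by
    have h4 : j (Pi.single γ 1) * j (Pi.single γ 1) = j (Pi.single γ 1) := by
      rw [← map_mul, ← Pi.single_mul, one_mul]
    exact mul_left_cancel₀ hγ (by rw [h4, mul_one])
  have h3 : ∀ v : Γ → S, j v = j (Pi.single γ (v γ)) := by
    intro v
    have h5 : v * Pi.single γ 1 = Pi.single γ (v γ) := by
      ext δ
      by_cases hδ : δ = γ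
      · subst hδ; simp
      · simp [hδ]
    rw [← h5, map_mul, h2, mul_one]
  let u : S →ₐ[R] K :=
    { toFun := fun s => j (Pi.single γ s)
      map_one' := h2
      map_mul' := fun s t => by rw [← map_mul, ← Pi.single_mul]
      map_zero' := by rw [Pi.single_zero, map_zero]
      map_add' := fun s t => by rw [← map_add, ← Pi.single_add]
      commutes' := fun r => by
        have := h3 (algebraMap R (Γ → S) r)
        rw [AlgHom.commutes] at this
        exact this.symm }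
  exact ⟨γ, u, AlgHom.ext h3⟩

include h hX in
/-- the two pull-backs of the basis over `Γ → S` agree -/
lemma bc_gΓ_eq [Module.FaithfullyFlat R S] (m : M) :
    bc A ((Algebra.TensorProduct.includeLeft : (Γ → S) →ₐ[EP g X Γ]
      (Γ → S) ⊗[EP g X Γ] (Γ → S)).restrictScalars R) ((gΓ g Γ).b m) =
    bc A ((Algebra.TensorProduct.includeRight : (Γ → S) →ₐ[EP g X Γ]
      (Γ → S) ⊗[EP g X Γ] (Γ → S)).restrictScalars R) ((gΓ g Γ).b m) := by
  classical
  refine gl_ext (gΓ g Γ) ((Algebra.TensorProduct.includeLeft : (Γ → S) →ₐ[EP g X Γ]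
      (Γ → S) ⊗[EP g X Γ] (Γ → S)).restrictScalars R)
      (isGroupLikeElem_bc _ ((gΓ g Γ).gl m)) (isGroupLikeElem_bc _ ((gΓ g Γ).gl m)) ?_
  intro K _ _ w
  rw [bc_bc, bc_bc]
  generalize hj₁ : w.comp ((Algebra.TensorProduct.includeLeft : (Γ → S) →ₐ[EP g X Γ]
      (Γ → S) ⊗[EP g X Γ] (Γ → S)).restrictScalars R) = j₁
  generalize hj₂ : w.comp ((Algebra.TensorProduct.includeRight : (Γ → S) →ₐ[EP g X Γ]
      (Γ → S) ⊗[EP g X Γ] (Γ → S)).restrictScalars R) = j₂
  have hj : ∀ f : EP g X Γ, j₁ (f : Γ → S) = j₂ (f : Γ → S) := by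
    intro f
    rw [← hj₁, ← hj₂]
    have h1 : (Algebra.TensorProduct.includeLeft : (Γ → S) →ₐ[EP g X Γ]
        (Γ → S) ⊗[EP g X Γ] (Γ → S)) (algebraMap (EP g X Γ) (Γ → S) f) =
        (Algebra.TensorProduct.includeRight : (Γ → S) →ₐ[EP g X Γ]
        (Γ → S) ⊗[EP g X Γ] (Γ → S)) (algebraMap (EP g X Γ) (Γ → S) f) := by
      rw [AlgHom.commutes, AlgHom.commutes]
    exact congrArg w h1
  obtain ⟨γ₁, u₁, h1⟩ := exists_factor j₁
  obtain ⟨γ₂, u₂, h2⟩ := exists_factor j₂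
  obtain ⟨α, hα⟩ := h.exists u₁ u₂
  -- `u₁ (f γ₁) = u₂ (f (α γ₁))`
  have h3 : ∀ f : EP g X Γ, u₁ ((f : Γ → S) γ₁) = u₂ ((f : Γ → S) (α * γ₁)) := by
    intro f
    let W : S ⊗[R] S →ₐ[R] K := Algebra.TensorProduct.lift u₁ u₂ (fun _ _ => .all _ _)
    have hW1 : W.comp (p₁ R S) = u₁ := by ext s; simp [W]
    have hW2 : W.comp (p₂ R S) = u₂ := by ext s; simp [W]
    have h4 := congrArg W (f.2 γ₁ α)
    rw [map_mul, map_mul, map_cc, hW1, hW2, ← AlgHom.comp_apply, ← AlgHom.comp_apply, hW1, hW2,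
      cc_eq_ite g X _ _ hX hα, if_pos rfl, one_mul, one_mul] at h4
    exact h4
  have h4 : ∀ f : EP g X Γ, u₂ ((f : Γ → S) (α * γ₁)) = u₂ ((f : Γ → S) γ₂) := by
    intro f
    rw [← h3]
    have := hj f
    rw [h1, h2] at this
    exact this
  have h5 : ∀ z : S ⊗[R] EP g X Γ, u₂ (Tm g X Γ z (α * γ₁)) = u₂ (Tm g X Γ z γ₂) := by
    intro z
    induction z using TensorProduct.induction_on with
    | zero => simp
    | add x y hx hy => simp only [map_add, Pi.add_apply, hx, hy]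
    | tmul s f =>
      rw [Tm_tmul, Pi.smul_apply, Pi.smul_apply, smul_eq_mul, smul_eq_mul, map_mul, map_mul, h4]
  have h6 : α * γ₁ = γ₂ := by
    by_contra hne
    obtain ⟨z, hz⟩ := (Tm_bijective X h hX).2 (Pi.single (α * γ₁) (1 : S))
    have h7 := h5 z
    rw [hz, Pi.single_eq_same, Pi.single_eq_of_ne (Ne.symm hne), map_one, map_zero] at h7
    exact one_ne_zero h7
  rw [h1, h2, ← bc_bc, ← bc_bc, bc_gΓ, bc_gΓ, hα, ← h6]
  rfl

include h hX in
/-- the basis over the torsor algebra -/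
theorem exists_gbasis_EP [Module.FaithfullyFlat R S] [Module.Flat R A] :
    ∃ g₀ : GBasis (EP g X Γ) (EP g X Γ ⊗[R] A) M,
      ∀ m, bc A (IsScalarTower.toAlgHom R (EP g X Γ) (Γ → S)) (g₀.b m) = (gΓ g Γ).b m := by
  have := ff_EP_fun (g := g) (Γ := Γ) X h hX
  exact MTKey.nonempty_gbasis_of_bc_eq (R := R) (A := A) (R₁ := EP g X Γ) (S₁ := Γ → S) (gΓ g Γ)
    (bc_gΓ_eq X h hX)

end

end Groth.Agent.RedSub.H666.IsoTors5
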