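import Groth.Agent.RedSub.H666.WtB
import Groth.Agent.RedSub.H666.IsoTors5

/-!
# Constancy of the set of roots

`HasWts q b Φ`: at all geometric points of `C` the set of roots with respect to the basis `b`
of group-like elements of `C ⊗ B` is `Φ`.
-/

set_option autoImplicit false
universe u
open scoped TensorProduct
open WithConv

namespace Groth.Agent.RedSub.H666.HasWts

open Groth.Agent.Sga3A.MTBasis Groth.Agent.RedSub.H666.SpOf Groth.Agent.Sga3A
open Groth.Agent.Sga3B Groth.Agent.Sga3B.RootCoact Groth.Agent.Sga3B.RootOrb Groth.Agent.Sga3B.RootGr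
open Groth.Agent.Sga3B.RootCert Groth.Agent.Sga3B.RootBC136 Groth.Agent.Sga3B.RootWt136
open Groth.Agent.Sga3B.RootFinal136 Groth.Agent.RedSub.H666.WtB
open Groth.Agent.RedSub.H666.IsoTors Groth.Agent.RedSub.H666.IsoTors2
open Groth.Agent.RedSub.H666.IsoTors3 Groth.Agent.RedSub.H666.IsoTors4
open Groth.Agent.RedSub.H666.IsoTors5

variable {R : Type u} [CommRing R] {A B : Type u} [CommRing A] [HopfAlgebra R A]
  [CommRing B] [HopfAlgebra R B] (q : A →ₐc[R] B)

section

variable {C : Type u} [CommRing C] [Algebra R C] {X Y : Type} [AddCommGroup X] [AddCommGroup Y]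

lemma gbasis_ext {Z : Type*} [CommGroup Z] {D : Type*} [CommRing D] [Bialgebra C D]
    {b b' : GBasis C D Z} (h : ∀ m, b.b m = b'.b m) : b = b' := by
  cases b
  cases b'
  congr 1
  exact Module.Basis.eq_of_apply_eq h

lemma gbc_bc {C' C'' : Type u} [CommRing C'] [Algebra R C'] [CommRing C''] [Algebra R C'']
    {Z : Type*} [CommGroup Z]
    (b : GBasis C (C ⊗[R] B) Z) (φ : C →ₐ[R] C') (ψ : C' →ₐ[R] C'') :
    (b.bc φ).bc ψ = b.bc (ψ.comp φ) :=
  gbasis_ext fun m => by rw [GBasis.bc_b, GBasis.bc_b, GBasis.bc_b, bc_bc]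

lemma bc_id {Z : Type*} [CommGroup Z] (b : GBasis C (C ⊗[R] B) Z) :
    b.bc (AlgHom.id R C) = b := by
  refine gbasis_ext fun m => ?_
  rw [GBasis.bc_b]
  have h1 : bc B (AlgHom.id R C) = AlgHom.id R _ := by ext <;> simp
  rw [h1]
  rfl

/-- the set of roots at all geometric points is `Φ` -/
def HasWts (b : GBasis C (C ⊗[R] B) (Multiplicative X)) (Φ : Set X) : Prop :=
  ∀ (K : Type u) [Field K] [IsAlgClosed K] [Algebra R K] (j : C →ₐ[R] K) (m : X), m ≠ 0 →
    (IsWt (pB q (b.bc j)) m ↔ m ∈ Φ)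

variable {q} {b : GBasis C (C ⊗[R] B) (Multiplicative X)} {Φ : Set X}

lemma HasWts.bc (h : HasWts q b Φ) {C' : Type u} [CommRing C'] [Algebra R C'] (φ : C →ₐ[R] C') :
    HasWts q (b.bc φ) Φ := by
  intro K _ _ _ j m hm
  rw [gbc_bc]
  exact h K (j.comp φ) m hm

lemma HasWts.reindex (h : HasWts q b Φ) (f : X ≃+ Y) {Ψ : Set Y} (hf : ∀ m, f m ∈ Ψ ↔ m ∈ Φ) :
    HasWts q (b.reindex (AddEquiv.toMultiplicative f)) Ψ := by
  intro K _ _ _ j m hm
  obtain ⟨m, rfl⟩ := f.surjective m
  rw [bc_reindex, isWt_reindex, hf]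
  exact h K j m (fun h0 => hm (by rw [h0, map_zero]))

/-- in the form of a projection to the group algebra -/
lemma HasWts.bcP (h : HasWts q b Φ) (K : Type u) [Field K] [IsAlgClosed K] [Algebra C K]
    (m : X) (hm : m ≠ 0) : IsWt (RootBC136.bcP K (pB q b)) m ↔ m ∈ Φ := by
  let _ : Algebra R K := ((algebraMap C K).comp (algebraMap R C)).toAlgebra
  have : IsScalarTower R C K := IsScalarTower.of_algebraMap_eq' rfl
  rw [← isWt_pB_bc]
  exact h K _ m hm

/-- The roots are constant in a neighbourhood of every point. -/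
theorem exists_hasWts_nhd [Algebra.Smooth R A] (b : GBasis C (C ⊗[R] B) (Multiplicative X))
    (c : PrimeSpectrum C) :
    ∃ (Φ : Finset X) (w : C), w ∉ c.asIdeal ∧ (0 : X) ∉ Φ ∧
      HasWts q (b.bc (IsScalarTower.toAlgHom R C (Localization.Away w))) (Φ : Set X) := by
  have hfp : Algebra.FinitePresentation R A := Algebra.Smooth.finitePresentation
  obtain ⟨Φ, w, hw, h0, h⟩ := RootNhd136.exists_weights_nhd (pB q b) (fg_aug) c
  refine ⟨Φ, w, hw, h0, ?_⟩
  intro K _ _ _ j m hm
  let _ : Algebra C K := ((j : Localization.Away w →+* K).comp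
    (algebraMap C (Localization.Away w))).toAlgebra
  have : IsScalarTower R C K := by
    refine IsScalarTower.of_algebraMap_eq fun r => ?_
    rw [← AlgHom.commutes j r, IsScalarTower.algebraMap_apply R C (Localization.Away w)]
    rfl
  have h1 : j.comp (IsScalarTower.toAlgHom R C (Localization.Away w)) =
      IsScalarTower.toAlgHom R C K := rfl
  rw [gbc_bc, h1, isWt_pB_bc, h K ?_ m hm]
  · rfl
  · have h2 : IsUnit (algebraMap C (Localization.Away w) w) :=
      IsLocalization.map_units (M := Submonoid.powers w) _ ⟨w, Submonoid.mem_powers w⟩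
    exact (h2.map (j : Localization.Away w →+* K)).ne_zero

/-- Invariance under extensions of fields. -/
theorem isWt_field [Algebra.Smooth R A] {K K' : Type u} [Field K] [Field K'] [Algebra R K]
    [Algebra R K'] (ι : K →ₐ[R] K') (b : GBasis K (K ⊗[R] B) (Multiplicative X)) (m : X)
    (hm : m ≠ 0) : IsWt (pB q (b.bc ι)) m ↔ IsWt (pB q b) m := by
  have hfp : Algebra.FinitePresentation R A := Algebra.Smooth.finitePresentation
  obtain ⟨hfin, hproj⟩ := projective_quot (R := K) (A := K ⊗[R] A) fg_aug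
  let _ : Algebra K K' := (ι : K →+* K').toAlgebra
  have : IsScalarTower R K K' := .of_algebraMap_eq' ι.comp_algebraMap.symm
  have h1 : ι = IsScalarTower.toAlgHom R K K' := rfl
  have h2 : IsScalarTower.toAlgHom R K K = AlgHom.id R K := rfl
  have h3 := isWt_pB_bc q K b m
  rw [h2, bc_id] at h3
  rw [h1, isWt_pB_bc, h3, RootNhd136.isWt_iff_rank (pB q b) K' hm,
    RootNhd136.isWt_iff_rank (pB q b) K hm]
  have h4 : (⊥ : PrimeSpectrum K').comap (algebraMap K K') =
      (⊥ : PrimeSpectrum K).comap (algebraMap K K) := Subsingleton.elim _ _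
  rw [h4]

/-- The set of roots descends along faithfully flat maps. -/
theorem HasWts.of_bc [Algebra.Smooth R A] {C' : Type u} [CommRing C'] [Algebra R C'] [Algebra C C']
    [IsScalarTower R C C'] [Module.FaithfullyFlat C C']
    (h : HasWts q (b.bc (IsScalarTower.toAlgHom R C C')) Φ) : HasWts q b Φ := by
  intro K _ _ _ j m hm
  let _ : Algebra C K := (j : C →+* K).toAlgebra
  have : IsScalarTower R C K := .of_algebraMap_eq' j.comp_algebraMap.symm
  have hnt : Nontrivial (K ⊗[C] C') := Module.FaithfullyFlat.rTensor_nontrivial C C' K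
  obtain ⟨P, hP⟩ := Ideal.exists_maximal (K ⊗[C] C')
  let k := (K ⊗[C] C') ⧸ P
  let _ : Field k := Ideal.Quotient.field P
  let L := AlgebraicClosure k
  let fL : (K ⊗[C] C') →+* L := (algebraMap k L).comp (Ideal.Quotient.mk P)
  let f1 : K →+* L := fL.comp (Algebra.TensorProduct.includeLeft : K →ₐ[C] K ⊗[C] C').toRingHom
  let f2 : C' →+* L := fL.comp (Algebra.TensorProduct.includeRight : C' →ₐ[C] K ⊗[C] C').toRingHom
  let _ : Algebra R L := (f1.comp (algebraMap R K)).toAlgebra
  let ι : K →ₐ[R] L := { f1 with commutes' := fun _ => rfl }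
  have hc : ∀ c : C, f2 (algebraMap C C' c) = f1 (j c) := by
    intro c
    change fL ((Algebra.TensorProduct.includeRight : C' →ₐ[C] K ⊗[C] C') (algebraMap C C' c)) =
      fL ((Algebra.TensorProduct.includeLeft : K →ₐ[C] K ⊗[C] C') (algebraMap C K c))
    rw [AlgHom.commutes, AlgHom.commutes]
  let j' : C' →ₐ[R] L := { f2 with
    commutes' := fun r => by
      change f2 (algebraMap R C' r) = f1 (algebraMap R K r)
      rw [IsScalarTower.algebraMap_apply R C C', hc, AlgHom.commutes] }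
  have h1 : ι.comp j = j'.comp (IsScalarTower.toAlgHom R C C') := AlgHom.ext fun c => (hc c).symm
  rw [← isWt_field ι _ m hm, gbc_bc, h1, ← gbc_bc]
  exact h L j' m hm

end

section Mono

variable {q} {S : Type u} [CommRing S] [Algebra R S] {X : Type} [AddCommGroup X]
variable {g : GBasis S (S ⊗[R] B) (Multiplicative X)} {Φ : Set X}

/-- the comparison automorphisms preserve the set of roots -/
theorem mem_iff_of_cmp (h : HasWts q g Φ) {K : Type u} [Field K] [IsAlgClosed K] [Algebra R K]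
    {u v : S →ₐ[R] K} {γ : MulAut (Multiplicative X)} (hc : Cmp g u v γ) (m : X) (hm : m ≠ 0) :
    (Multiplicative.toAdd (γ (Multiplicative.ofAdd m))) ∈ Φ ↔ m ∈ Φ := by
  let f : X ≃+ X := AddEquiv.toMultiplicative.symm γ
  have h1 : (g.bc u).reindex (AddEquiv.toMultiplicative f) = g.bc v := by
    refine gbasis_ext fun m => ?_
    rw [GBasis.reindex_b, GBasis.bc_b, GBasis.bc_b, hc]
    congr 2
    exact MulEquiv.apply_symm_apply γ m
  have h2 := isWt_reindex q (g.bc u) f m
  rw [h1, h K u m hm, h K v _ (fun h0 => hm (f.injective (h0.trans (map_zero f).symm)))] at h2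
  exact h2

end Mono

section Pi

/-- a homomorphism from a finite product to a field factors through a projection -/
lemma exists_factor_pi {ι : Type*} [Finite ι] {T : ι → Type u} [∀ i, CommRing (T i)]
    [∀ i, Algebra R (T i)] {K : Type u} [Field K] [Algebra R K] (j : (∀ i, T i) →ₐ[R] K) :
    ∃ (i : ι) (u : T i →ₐ[R] K), j = u.comp (Pi.evalAlgHom R T i) := by
  classical
  have := Fintype.ofFinite ι
  have h1 : ∑ i : ι, j (Pi.single i 1) = 1 := by
    rw [← map_sum, Finset.univ_sum_single (fun i : ι => (1 : T i))]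
    exact map_one j
  obtain ⟨i, hi⟩ : ∃ i, j (Pi.single i 1) ≠ 0 := by
    by_contra hcon
    push Not at hcon
    simp only [hcon, Finset.sum_const_zero] at h1
    exact zero_ne_one h1
  have h2 : j (Pi.single i 1) = 1 := by
    have h4 : j (Pi.single i 1) * j (Pi.single i 1) = j (Pi.single i 1) := by
      rw [← map_mul, ← Pi.single_mul, one_mul]
    exact mul_left_cancel₀ hi (by rw [h4, mul_one])
  have h3 : ∀ v : (∀ i, T i), j v = j (Pi.single i (v i)) := by
    intro v
    have h5 : v * Pi.single i 1 = Pi.single i (v i) := by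
      ext δ
      by_cases hδ : δ = i
      · subst hδ; simp
      · simp [hδ]
    rw [← h5, map_mul, h2, mul_one]
  let u : T i →ₐ[R] K :=
    { toFun := fun s => j (Pi.single i s)
      map_one' := h2
      map_mul' := fun s t => by rw [← map_mul, ← Pi.single_mul]
      map_zero' := by rw [Pi.single_zero, map_zero]
      map_add' := fun s t => by rw [← map_add, ← Pi.single_add]
      commutes' := fun r => by
        have := h3 (algebraMap R (∀ i, T i) r)
        rw [AlgHom.commutes] at this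
        exact this.symm }
  exact ⟨i, u, AlgHom.ext h3⟩

variable {q} {X : Type} [AddCommGroup X]

theorem HasWts.pi {ι : Type u} [Finite ι] {T : ι → Type u} [∀ i, CommRing (T i)]
    [∀ i, Algebra R (T i)] {gi : ∀ i, GBasis (T i) (T i ⊗[R] B) (Multiplicative X)} {Φ : Set X}
    (h : ∀ i, HasWts q (gi i) Φ) : HasWts q (piBasis gi) Φ := by
  intro K _ _ _ j m hm
  obtain ⟨i, u, rfl⟩ := exists_factor_pi j
  rw [← gbc_bc]
  have h1 : (piBasis gi).bc (Pi.evalAlgHom R T i) = gi i := by
    refine gbasis_ext fun m => ?_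
    rw [GBasis.bc_b, bc_piBasis]
  rw [h1]
  exact h i K u m hm

/-- the torsor algebra -/
theorem HasWts.gΓ {S : Type u} [CommRing S] [Algebra R S]
    {g : GBasis S (S ⊗[R] B) (Multiplicative X)} {Φ : Set X} (h : HasWts q g Φ)
    {Γ : Subgroup (MulAut (Multiplicative X))} [Fintype Γ]
    (hΓ : ∀ γ ∈ Γ, ∀ m : X, Multiplicative.toAdd (γ (Multiplicative.ofAdd m)) ∈ Φ ↔ m ∈ Φ) :
    HasWts q (IsoTors5.gΓ g Γ) Φ := by
  intro K _ _ _ j m hm
  obtain ⟨γ, u, rfl⟩ := exists_factor j
  rw [← gbc_bc]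
  let f : X ≃+ X := AddEquiv.toMultiplicative.symm (γ : MulAut (Multiplicative X))⁻¹
  have h1 : (IsoTors5.gΓ g Γ).bc (Pi.evalAlgHom R (fun _ : Γ => S) γ) =
      g.reindex (AddEquiv.toMultiplicative f) := by
    refine gbasis_ext fun m => ?_
    rw [GBasis.bc_b, bc_gΓ, GBasis.reindex_b]
    rfl
  rw [h1]
  exact h.reindex f (fun m => by
    have := hΓ _ (Γ.inv_mem γ.2) m
    exact this) K u m hm

/-- The set of roots over the torsor algebra. -/
theorem exists_hasWts_EP [Algebra.Smooth R A] [Module.Flat R B]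
    {S : Type u} [CommRing S] [Algebra R S] [Module.FaithfullyFlat R S]
    {g : GBasis S (S ⊗[R] B) (Multiplicative X)} {Φ : Set X} (h : HasWts q g Φ)
    {Γ : Subgroup (MulAut (Multiplicative X))} [Fintype Γ]
    (hΓ : ∀ γ ∈ Γ, ∀ m : X, Multiplicative.toAdd (γ (Multiplicative.ofAdd m)) ∈ Φ ↔ m ∈ Φ)
    (hm : Mono g Γ) (Z : Finset (Multiplicative X))
    (hZ : Subgroup.closure (Z : Set (Multiplicative X)) = ⊤) :
    ∃ g₀ : GBasis (EP g Z Γ) (EP g Z Γ ⊗[R] B) (Multiplicative X), HasWts q g₀ Φ := by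
  obtain ⟨g₀, hg₀⟩ := exists_gbasis_EP (g := g) (Γ := Γ) Z hm hZ
  have := ff_EP_fun (g := g) (Γ := Γ) Z hm hZ
  refine ⟨g₀, ?_⟩
  have h1 : g₀.bc (IsScalarTower.toAlgHom R (EP g Z Γ) (Γ → S)) = IsoTors5.gΓ g Γ :=
    gbasis_ext fun m => by rw [GBasis.bc_b, hg₀]
  apply HasWts.of_bc (C' := Γ → S)
  rw [h1]
  exact h.gΓ hΓ

end Pi

end Groth.Agent.RedSub.H666.HasWts
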