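import Groth.Agent.Sga3A.MTKey
import Groth.Agent.Sga3A.ModDesc

/-!
# Isotriviality of groups of multiplicative type with finite monodromy, part 1

`B` a bialgebra over `R`, with a basis of group-like elements indexed by `M` over a faithfully flat
`R`-algebra `S`. If the comparison automorphisms of the two pull-backs of this basis to `S ⊗ S` lie
in a finite group `Γ` of automorphisms of `M`, then there is a finite étale faithfully flat
`R`-algebra over which `B` has such a basis.

This file: idempotents which agree at all fields, and the idempotents of the comparison.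
-/

set_option autoImplicit false

open TensorProduct

namespace Groth.Agent.RedSub.H666.IsoTors

open Groth.Agent.Sga3A Groth.Agent.Sga3A.MTBasis

universe u

section idem

variable {P : Type u} [CommRing P]

/-- An idempotent which vanishes at all fields is zero. -/
lemma idem_eq_zero {e : P} (he : IsIdempotentElem e)
    (h : ∀ (K : Type u) [Field K] (w : P →+* K), w e = 0) : e = 0 := by
  have h1 : IsUnit (1 - e) := by
    by_contra hu
    obtain ⟨m, hm, hem⟩ := exists_max_ideal_of_mem_nonunits (a := 1 - e) hu
    let _ : Field (P ⧸ m) := Ideal.Quotient.field m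
    have h2 : Ideal.Quotient.mk m e = 0 := h (P ⧸ m) (Ideal.Quotient.mk m)
    have h3 : Ideal.Quotient.mk m (1 - e) = 0 := Ideal.Quotient.eq_zero_iff_mem.2 hem
    rw [map_sub, h2, map_one, sub_zero] at h3
    exact one_ne_zero h3
  have h2 : (1 - e) * e = 0 := by
    rw [sub_mul, one_mul, he.eq, sub_self]
  exact (h1.mul_right_eq_zero).1 h2

/-- Idempotents which agree at all fields are equal. -/
lemma idem_eq {e f : P} (he : IsIdempotentElem e) (hf : IsIdempotentElem f)
    (h : ∀ (K : Type u) [Field K] (w : P →+* K), w e = w f) : e = f := by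
  have h1 : e * (1 - f) = 0 := by
    refine idem_eq_zero (he.mul hf.one_sub) fun K _ w => ?_
    rw [map_mul, map_sub, map_one, h, ← map_one w, ← map_sub, ← map_mul, mul_sub, mul_one, hf.eq,
      sub_self, map_zero]
  have h2 : f * (1 - e) = 0 := by
    refine idem_eq_zero (hf.mul he.one_sub) fun K _ w => ?_
    rw [map_mul, map_sub, map_one, ← h, ← map_one w, ← map_sub, ← map_mul, mul_sub, mul_one, he.eq,
      sub_self, map_zero]
  rw [mul_sub, mul_one, sub_eq_zero] at h1 h2
  rw [h1, mul_comm, ← h2]

end idem

section ext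

variable {P B : Type u} [CommRing P] [CommRing B] [Bialgebra P B] {M : Type*} [CommGroup M]

lemma repr_idem (g : GBasis P B M) {x : B} (hx : IsGroupLikeElem P x) (m : M) :
    IsIdempotentElem (g.b.repr x m) := by
  classical
  have := g.repr_mul_repr hx m m
  rwa [if_pos rfl] at this

end ext

section cmp

variable {R A S : Type u} [CommRing R] [CommRing A] [Bialgebra R A] [CommRing S] [Algebra R S]
  {M : Type*} [CommGroup M] (g : GBasis S (S ⊗[R] A) M)

/-- Two basis of group-like elements. -/
lemma bc_b_comp {P P' : Type u} [CommRing P] [CommRing P'] [Algebra R P] [Algebra R P']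
    (v : S →ₐ[R] P) (w : P →ₐ[R] P') : ((g.bc v).bc w).b = (g.bc (w.comp v)).b := by
  apply Module.Basis.eq_of_apply_eq
  intro m
  rw [GBasis.bc_b, GBasis.bc_b, GBasis.bc_b, bc_bc]

include g in
/-- Group-like elements which agree at all fields are equal. -/
lemma gl_ext {P : Type u} [CommRing P] [Algebra R P] (v : S →ₐ[R] P) {x y : P ⊗[R] A}
    (hx : IsGroupLikeElem P x) (hy : IsGroupLikeElem P y)
    (h : ∀ (K : Type u) [Field K] [Algebra R K] (w : P →ₐ[R] K), bc A w x = bc A w y) : x = y := by
  apply (g.bc v).b.repr.injective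
  ext m
  refine idem_eq (repr_idem _ hx m) (repr_idem _ hy m) fun K _ w => ?_
  let _ : Algebra R K := (w.comp (algebraMap R P)).toAlgebra
  let w' : P →ₐ[R] K := { w with commutes' := fun _ => rfl }
  have h1 := GBasis.bc_repr (g.bc v) w' x m
  have h2 := GBasis.bc_repr (g.bc v) w' y m
  rw [h K w'] at h1
  exact h1.symm.trans h2

/-- `γ` is the automorphism of `M` comparing the pull-backs of the basis along `u` and `v`. -/
def Cmp {K : Type u} [CommRing K] [Algebra R K] (u v : S →ₐ[R] K) (γ : MulAut M) : Prop :=
  ∀ m, bc A u (g.b m) = bc A v (g.b (γ m))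

namespace Cmp

variable {g} {K : Type u} [CommRing K] [Algebra R K] {u v w : S →ₐ[R] K} {γ δ : MulAut M}

lemma refl (u : S →ₐ[R] K) : Cmp g u u 1 := fun _ => rfl

lemma trans (h : Cmp g u v γ) (h' : Cmp g v w δ) : Cmp g u w (δ * γ) := fun m =>
  (h m).trans (h' (γ m))

lemma symm (h : Cmp g u v γ) : Cmp g v u γ⁻¹ := fun m => by
  rw [h (γ⁻¹ m), MulAut.apply_inv_self]

lemma unique [Nontrivial K] (h : Cmp g u v γ) (h' : Cmp g u v δ) : γ = δ := by
  apply MulEquiv.ext
  intro m
  apply (g.bc v).b_injective
  rw [GBasis.bc_b, GBasis.bc_b, ← h m, h' m]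

lemma map (h : Cmp g u v γ) {K' : Type u} [CommRing K'] [Algebra R K'] (f : K →ₐ[R] K') :
    Cmp g (f.comp u) (f.comp v) γ := fun m => by
  rw [← bc_bc, h m, bc_bc]

end Cmp

/-- The idempotent of the locus where `α` compares the pull-backs along `u` and `v`. -/
noncomputable def cc (X : Finset M) {P : Type u} [CommRing P] [Algebra R P] (u v : S →ₐ[R] P)
    (α : MulAut M) : P :=
  ∏ m ∈ X, (g.bc v).b.repr (bc A u (g.b m)) (α m)

variable (X : Finset M) {P : Type u} [CommRing P] [Algebra R P] (u v w : S →ₐ[R] P)

lemma cc_idem (α : MulAut M) : IsIdempotentElem (cc g X u v α) := by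
  unfold cc
  rw [IsIdempotentElem, ← Finset.prod_mul_distrib]
  exact Finset.prod_congr rfl fun m _ => (repr_idem _ (isGroupLikeElem_bc u (g.gl m)) _).eq

lemma map_cc {P' : Type u} [CommRing P'] [Algebra R P'] (f : P →ₐ[R] P') (α : MulAut M) :
    f (cc g X u v α) = cc g X (f.comp u) (f.comp v) α := by
  unfold cc
  rw [map_prod]
  refine Finset.prod_congr rfl fun m _ => ?_
  rw [← GBasis.bc_repr, bc_b_comp, bc_bc]

variable (hX : Subgroup.closure (X : Set M) = ⊤)

include hX in
open scoped Classical in
lemma cc_eq_ite [Nontrivial P] {γ : MulAut M} (h : Cmp g u v γ) (α : MulAut M) :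
    cc g X u v α = if α = γ then 1 else 0 := by
  have h1 : ∀ m, (g.bc v).b.repr (bc A u (g.b m)) (α m) = if γ m = α m then 1 else 0 := by
    intro m
    rw [h m, ← GBasis.bc_b, Module.Basis.repr_self, Finsupp.single_apply]
  unfold cc
  split_ifs with hα
  · subst hα
    exact Finset.prod_eq_one fun m _ => by rw [h1, if_pos rfl]
  · obtain ⟨m, hm, hne⟩ : ∃ m ∈ X, γ m ≠ α m := by
      by_contra hcon
      push Not at hcon
      apply hα
      have h2 : (γ : M →* M) = (α : M →* M) := MonoidHom.eq_of_eqOn_dense hX hcon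
      apply MulEquiv.ext
      intro m
      exact (DFunLike.congr_fun h2 m).symm
    exact Finset.prod_eq_zero hm (by rw [h1, if_neg hne])

end cmp

end Groth.Agent.RedSub.H666.IsoTors
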