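import Groth.Agent.RedSub.H666.IsoTors
import Mathlib.RingTheory.Idempotents
import Mathlib.FieldTheory.IsAlgClosed.AlgebraicClosure

/-!
# Isotriviality of groups of multiplicative type with finite monodromy, part 2

The torsor algebra `EP` under the finite group `Γ` and its base change to `S`.
-/

set_option autoImplicit false

open TensorProduct

namespace Groth.Agent.RedSub.H666.IsoTors2

open Groth.Agent.Sga3A Groth.Agent.Sga3A.MTBasis Groth.Agent.Sga3A.ModDesc IsoTors

universe u

section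

variable {R A S : Type u} [CommRing R] [CommRing A] [Bialgebra R A] [CommRing S] [Algebra R S]
  {M : Type*} [CommGroup M] (g : GBasis S (S ⊗[R] A) M)

/-- Over a local ring there is a comparison automorphism. -/
lemma exists_cmp {K : Type u} [CommRing K] [IsLocalRing K] [Algebra R K] (u v : S →ₐ[R] K) :
    ∃ γ : MulAut M, Cmp g u v γ := by
  have h1 : ∀ m, ∃ m', bc A u (g.b m) = bc A v (g.b m') := by
    intro m
    obtain ⟨m', hm'⟩ := (g.bc v).exists_eq (isGroupLikeElem_bc u (g.gl m))
    exact ⟨m', by rw [hm', GBasis.bc_b]⟩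
  have h2 : ∀ m, ∃ m', bc A v (g.b m) = bc A u (g.b m') := by
    intro m
    obtain ⟨m', hm'⟩ := (g.bc u).exists_eq (isGroupLikeElem_bc v (g.gl m))
    exact ⟨m', by rw [hm', GBasis.bc_b]⟩
  choose f hf using h1
  choose f' hf' using h2
  have hu : ∀ m m', bc A u (g.b m) = bc A u (g.b m') → m = m' := by
    intro m m' h
    apply (g.bc u).b_injective
    rw [GBasis.bc_b, GBasis.bc_b, h]
  have hv : ∀ m m', bc A v (g.b m) = bc A v (g.b m') → m = m' := by
    intro m m' h
    apply (g.bc v).b_injective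
    rw [GBasis.bc_b, GBasis.bc_b, h]
  refine ⟨{ toFun := f, invFun := f', left_inv := ?_, right_inv := ?_, map_mul' := ?_ }, hf⟩
  · intro m
    apply hu
    rw [← hf', ← hf]
  · intro m
    apply hv
    rw [← hf, ← hf']
  · intro m m'
    apply hv
    rw [← hf, g.mul, g.mul, map_mul, map_mul, hf, hf]

variable (Γ : Subgroup (MulAut M))

/-- All comparison automorphisms at algebraically closed fields are in `Γ`. -/
def Mono : Prop :=
  ∀ (K : Type u) [Field K] [IsAlgClosed K] [Algebra R K] (u v : S →ₐ[R] K) (γ : MulAut M),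
    Cmp g u v γ → γ ∈ Γ

variable {g Γ}

lemma Mono.exists (h : Mono g Γ) {K : Type u} [CommRing K] [IsLocalRing K] [Algebra R K]
    (u v : S →ₐ[R] K) : ∃ γ : Γ, Cmp g u v γ := by
  obtain ⟨γ, hγ⟩ := exists_cmp g u v
  refine ⟨⟨γ, ?_⟩, hγ⟩
  let k := IsLocalRing.ResidueField K
  let L := AlgebraicClosure k
  let _ : Algebra R k := ((algebraMap K k).comp (algebraMap R K)).toAlgebra
  let _ : Algebra R L := ((algebraMap k L).comp (algebraMap R k)).toAlgebra
  let w : K →ₐ[R] L := { (algebraMap k L).comp (algebraMap K k) with commutes' := fun _ => rfl }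
  exact h L (w.comp u) (w.comp v) γ (hγ.map w)

variable (h : Mono g Γ) (X : Finset M) (hX : Subgroup.closure (X : Set M) = ⊤)
  {P : Type u} [CommRing P] [Algebra R P] (u v w : S →ₐ[R] P)

include h hX in
lemma cc_ortho {α β : Γ} (hαβ : α ≠ β) : cc g X u v (α : MulAut M) * cc g X u v (β : MulAut M) = 0 := by
  classical
  refine idem_eq_zero ((cc_idem g X u v _).mul (cc_idem g X u v _)) fun K _ f => ?_
  let _ : Algebra R K := (f.comp (algebraMap R P)).toAlgebra
  let f' : P →ₐ[R] K := { f with commutes' := fun _ => rfl }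
  change f' _ = 0
  rw [map_mul, map_cc, map_cc]
  obtain ⟨γ, hγ⟩ := h.exists (f'.comp u) (f'.comp v)
  rw [cc_eq_ite g X _ _ hX hγ, cc_eq_ite g X _ _ hX hγ]
  split_ifs with h1 h2
  · exact absurd (Subtype.ext (h1.trans h2.symm)) hαβ
  · rw [mul_zero]
  · rw [zero_mul]
  · rw [zero_mul]

variable [Fintype Γ]

include h hX in
lemma sum_cc : ∑ α : Γ, cc g X u v (α : MulAut M) = 1 := by
  classical
  have ho : OrthogonalIdempotents (fun α : Γ => cc g X u v (α : MulAut M)) :=
    ⟨fun α => cc_idem g X u v _, fun α β hαβ => cc_ortho h X hX u v hαβ⟩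
  refine idem_eq ho.isIdempotentElem_sum IsIdempotentElem.one fun K _ f => ?_
  let _ : Algebra R K := (f.comp (algebraMap R P)).toAlgebra
  let f' : P →ₐ[R] K := { f with commutes' := fun _ => rfl }
  change f' _ = f' _
  rw [map_sum, map_one]
  obtain ⟨γ, hγ⟩ := h.exists (f'.comp u) (f'.comp v)
  have h1 : ∀ α : Γ, f' (cc g X u v (α : MulAut M)) = if α = γ then 1 else 0 := by
    intro α
    rw [map_cc, cc_eq_ite g X _ _ hX hγ]
    simp only [Subtype.ext_iff]
  simp only [h1, Finset.sum_ite_eq', Finset.mem_univ, if_true]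

include h hX in
lemma sum_cc_mul_cc (δ : Γ) :
    ∑ α : Γ, cc g X u v (α : MulAut M) * cc g X v w ((δ * α⁻¹ : Γ) : MulAut M) =
      cc g X u w (δ : MulAut M) := by
  classical
  have ho : OrthogonalIdempotents (fun α : Γ => cc g X u v (α : MulAut M) *
      cc g X v w ((δ * α⁻¹ : Γ) : MulAut M)) :=
    ⟨fun α => (cc_idem g X u v _).mul (cc_idem g X v w _), fun α β hαβ => by
      have := cc_ortho h X hX u v hαβ
      change _ * _ * (_ * _) = 0
      rw [mul_mul_mul_comm, this, zero_mul]⟩
  refine idem_eq ho.isIdempotentElem_sum (cc_idem g X u w _) fun K _ f => ?_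
  let _ : Algebra R K := (f.comp (algebraMap R P)).toAlgebra
  let f' : P →ₐ[R] K := { f with commutes' := fun _ => rfl }
  change f' _ = f' _
  rw [map_sum]
  obtain ⟨γ, hγ⟩ := h.exists (f'.comp u) (f'.comp v)
  obtain ⟨γ', hγ'⟩ := h.exists (f'.comp v) (f'.comp w)
  have h3 : Cmp g (f'.comp u) (f'.comp w) ((γ' * γ : Γ) : MulAut M) := hγ.trans hγ'
  have h1 : ∀ α : Γ, f' (cc g X u v (α : MulAut M) * cc g X v w ((δ * α⁻¹ : Γ) : MulAut M)) =
      if α = γ then (if δ * γ⁻¹ = γ' then 1 else 0) else 0 := by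
    intro α
    rw [map_mul, map_cc, map_cc, cc_eq_ite g X _ _ hX hγ, cc_eq_ite g X _ _ hX hγ']
    by_cases h4 : α = γ
    · subst h4
      simp only [Subtype.ext_iff, if_true, one_mul]
    · rw [if_neg h4, if_neg (fun h5 => h4 (Subtype.ext h5)), zero_mul]
  simp only [h1, Finset.sum_ite_eq', Finset.mem_univ, if_true]
  rw [map_cc, cc_eq_ite g X _ _ hX h3]
  simp only [← Subtype.ext_iff, mul_inv_eq_iff_eq_mul]

end

end Groth.Agent.RedSub.H666.IsoTors2
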