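import Groth.Agent.RedSub.H666.IsoTors2
import Mathlib.LinearAlgebra.TensorProduct.Pi

/-!
# Isotriviality of groups of multiplicative type with finite monodromy, part 3

`S ⊗ EP = (Γ → S)`.
-/

set_option autoImplicit false

open TensorProduct

namespace Groth.Agent.RedSub.H666.IsoTors3

open Groth.Agent.Sga3A Groth.Agent.Sga3A.MTBasis Groth.Agent.Sga3A.ModDesc IsoTors IsoTors2

universe u

section

variable {R A S : Type u} [CommRing R] [CommRing A] [Bialgebra R A] [CommRing S] [Algebra R S]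
  {M : Type*} [CommGroup M] (g : GBasis S (S ⊗[R] A) M)

variable (R S) in
/-- first inclusion -/
abbrev p₁ : S →ₐ[R] S ⊗[R] S := Algebra.TensorProduct.includeLeft

variable (R S) in
/-- second inclusion -/
abbrev p₂ : S →ₐ[R] S ⊗[R] S := Algebra.TensorProduct.includeRight

variable (X : Finset M) (Γ : Subgroup (MulAut M))

/-- The coordinate algebra of the torsor. -/
noncomputable def EP : Subalgebra R (Γ → S) where
  carrier := {f | ∀ γ α : Γ, cc g X (p₁ R S) (p₂ R S) (α : MulAut M) * p₁ R S (f γ) =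
    cc g X (p₁ R S) (p₂ R S) (α : MulAut M) * p₂ R S (f (α * γ))}
  mul_mem' {a b} ha hb γ α := by
    have h1 := (cc_idem g X (p₁ R S) (p₂ R S) (α : MulAut M)).eq
    simp only [Pi.mul_apply, map_mul]
    calc _ = (cc g X (p₁ R S) (p₂ R S) (α : MulAut M) * p₁ R S (a γ)) *
          (cc g X (p₁ R S) (p₂ R S) (α : MulAut M) * p₁ R S (b γ)) := by
          rw [mul_mul_mul_comm, h1]
      _ = (cc g X (p₁ R S) (p₂ R S) (α : MulAut M) * p₂ R S (a (α * γ))) *
          (cc g X (p₁ R S) (p₂ R S) (α : MulAut M) * p₂ R S (b (α * γ))) := by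
          rw [ha γ α, hb γ α]
      _ = _ := by rw [mul_mul_mul_comm, h1]
  add_mem' {a b} ha hb γ α := by
    simp only [Pi.add_apply, map_add, mul_add]
    rw [ha γ α, hb γ α]
  algebraMap_mem' r γ α := by
    simp only [Pi.algebraMap_apply, AlgHom.commutes]

lemma mem_EP {f : Γ → S} : f ∈ EP g X Γ ↔ ∀ γ α : Γ,
    cc g X (p₁ R S) (p₂ R S) (α : MulAut M) * p₁ R S (f γ) =
    cc g X (p₁ R S) (p₂ R S) (α : MulAut M) * p₂ R S (f (α * γ)) := Iff.rfl

variable [Fintype Γ]

/-- the `ε`-component of the coaction -/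
noncomputable def thc (ε : Γ) : (Γ → S) →ₗ[S] S ⊗[R] S where
  toFun v := ∑ α : Γ, cc g X (p₁ R S) (p₂ R S) (α : MulAut M) * p₁ R S (v (α⁻¹ * ε))
  map_add' v w := by
    simp only [Pi.add_apply, map_add, mul_add, Finset.sum_add_distrib]
  map_smul' s v := by
    simp only [Pi.smul_apply, smul_eq_mul, map_mul, RingHom.id_apply, Finset.smul_sum]
    refine Finset.sum_congr rfl fun α _ => ?_
    rw [Algebra.smul_def s, mul_left_comm]
    rfl

lemma thc_apply (ε : Γ) (v : Γ → S) : thc g X Γ ε v =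
    ∑ α : Γ, cc g X (p₁ R S) (p₂ R S) (α : MulAut M) * p₁ R S (v (α⁻¹ * ε)) := rfl

open scoped Classical in
/-- the coaction -/
noncomputable def th : (Γ → S) →ₗ[S] S ⊗[R] (Γ → S) :=
  (TensorProduct.piRight R S S (fun _ : Γ => S)).symm.toLinearMap ∘ₗ
    LinearMap.pi (thc g X Γ)

/-- the components of an element of `N ⊗ (Γ → S)` -/
noncomputable def cp (N : Type*) [AddCommGroup N] [Module R N] (ε : Γ) :
    N ⊗[R] (Γ → S) →ₗ[R] N ⊗[R] S := (LinearMap.proj (R := R) ε).lTensor N

omit [Fintype Γ] in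
@[simp] lemma cp_tmul (N : Type*) [AddCommGroup N] [Module R N] (ε : Γ) (n : N) (v : Γ → S) :
    cp (R := R) (S := S) Γ N ε (n ⊗ₜ v) = n ⊗ₜ v ε := rfl

lemma cp_ext (N : Type*) [AddCommGroup N] [Module R N] {x y : N ⊗[R] (Γ → S)}
    (h : ∀ ε, cp Γ N ε x = cp Γ N ε y) : x = y := by
  classical
  apply (TensorProduct.piRight R R N (fun _ : Γ => S)).injective
  funext ε
  have h1 : ∀ z : N ⊗[R] (Γ → S), (TensorProduct.piRight R R N (fun _ : Γ => S)) z ε =
      cp Γ N ε z := by
    intro z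
    induction z using TensorProduct.induction_on with
    | zero => simp
    | tmul n v => simp
    | add x y hx hy => simp only [map_add, Pi.add_apply, hx, hy]
  rw [h1, h1, h]

lemma cp_th (ε : Γ) (v : Γ → S) : cp Γ S ε (th g X Γ v) = thc g X Γ ε v := by
  classical
  have h1 : ∀ z : S ⊗[R] (Γ → S), (TensorProduct.piRight R S S (fun _ : Γ => S)) z ε =
      cp Γ S ε z := by
    intro z
    induction z using TensorProduct.induction_on with
    | zero => simp
    | tmul n v => simp
    | add x y hx hy => simp only [map_add, Pi.add_apply, hx, hy]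
  rw [← h1, th, LinearMap.comp_apply, LinearEquiv.coe_coe, LinearEquiv.apply_symm_apply]
  rfl

variable {g Γ} (h : Mono g Γ) (hX : Subgroup.closure (X : Set M) = ⊤)

include h hX in
/-- elements of `EP` are the invariant elements -/
lemma th_eq_iff (v : Γ → S) : th g X Γ v = 1 ⊗ₜ v ↔ v ∈ EP g X Γ := by
  classical
  constructor
  · intro hv γ α
    have h1 := congrArg (cp Γ S (α * γ)) hv
    rw [cp_th, cp_tmul, thc_apply] at h1
    have h2 := congrArg (fun z => cc g X (p₁ R S) (p₂ R S) (α : MulAut M) * z) h1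
    simp only [Finset.mul_sum] at h2
    rw [Finset.sum_eq_single α] at h2
    · rw [← mul_assoc, (cc_idem g X (p₁ R S) (p₂ R S) (α : MulAut M)).eq, inv_mul_cancel_left] at h2
      exact h2
    · intro β _ hβ
      rw [← mul_assoc, cc_ortho h X hX _ _ (Ne.symm hβ), zero_mul]
    · intro h3
      exact absurd (Finset.mem_univ _) h3
  · intro hv
    apply cp_ext
    intro ε
    rw [cp_th, cp_tmul, thc_apply]
    have h1 : ∀ α : Γ, cc g X (p₁ R S) (p₂ R S) (α : MulAut M) * p₁ R S (v (α⁻¹ * ε)) =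
        cc g X (p₁ R S) (p₂ R S) (α : MulAut M) * p₂ R S (v ε) := by
      intro α
      rw [hv (α⁻¹ * ε) α, mul_inv_cancel_left]
    simp only [h1]
    rw [← Finset.sum_mul, sum_cc h X hX, one_mul]
    rfl

include hX in
omit h in
/-- counit -/
lemma act_th (v : Γ → S) : act R S (Γ → S) (th g X Γ v) = v := by
  classical
  have h1 : ∀ (z : S ⊗[R] (Γ → S)) (ε : Γ), act R S (Γ → S) z ε =
      Algebra.TensorProduct.lmul' R (cp Γ S ε z) := by
    intro z ε
    induction z using TensorProduct.induction_on with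
    | zero => simp
    | tmul n v => simp
    | add x y hx hy => simp only [map_add, Pi.add_apply, hx, hy]
  funext ε
  rw [h1, cp_th, thc_apply, map_sum]
  have h2 : (Algebra.TensorProduct.lmul' R (S := S)).comp (p₁ R S) = AlgHom.id R S := by
    ext s; simp
  have h3 : (Algebra.TensorProduct.lmul' R (S := S)).comp (p₂ R S) = AlgHom.id R S := by
    ext s; simp
  have h4 : ∀ α : Γ, Algebra.TensorProduct.lmul' R (S := S)
      (cc g X (p₁ R S) (p₂ R S) (α : MulAut M) * p₁ R S (v (α⁻¹ * ε))) =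
      if α = 1 then v ε else 0 := by
    intro α
    rw [map_mul, map_cc, h2, h3, ← AlgHom.comp_apply, h2, AlgHom.id_apply]
    rcases subsingleton_or_nontrivial S with hS | hS
    · exact Subsingleton.elim _ _
    · rw [cc_eq_ite g X _ _ hX (Cmp.refl _)]
      simp only [OneMemClass.coe_eq_one]
      by_cases hα : α = 1
      · subst hα
        simp
      · rw [if_neg hα, if_neg hα, zero_mul]
  simp only [h4, Finset.sum_ite_eq', Finset.mem_univ, if_true]

variable (R S) in
/-- the inclusions of `S` in `S ⊗ S ⊗ S` -/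
abbrev q₁ : S →ₐ[R] S ⊗[R] (S ⊗[R] S) := Algebra.TensorProduct.includeLeft

variable (R S) in
/-- the inclusions of `S` in `S ⊗ S ⊗ S` -/
abbrev q₂ : S →ₐ[R] S ⊗[R] (S ⊗[R] S) := Algebra.TensorProduct.includeRight.comp (p₁ R S)

variable (R S) in
/-- the inclusions of `S` in `S ⊗ S ⊗ S` -/
abbrev q₃ : S →ₐ[R] S ⊗[R] (S ⊗[R] S) := Algebra.TensorProduct.includeRight.comp (p₂ R S)

include h hX in
/-- cocycle condition -/
lemma co_th (v : Γ → S) : ((th g X Γ).restrictScalars R).lTensor S (th g X Γ v) =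
    (TensorProduct.mk R S (Γ → S) 1).lTensor S (th g X Γ v) := by
  classical
  -- components
  have hinj : ∀ x y : S ⊗[R] (S ⊗[R] (Γ → S)),
      (∀ ε, (cp Γ S ε).lTensor S x = (cp Γ S ε).lTensor S y) → x = y := by
    intro x y hxy
    let e := TensorProduct.piRight R R S (fun _ : Γ => S)
    have h1 : ∀ (z : S ⊗[R] (S ⊗[R] (Γ → S))) (ε : Γ),
        (TensorProduct.piRight R R S (fun _ : Γ => S ⊗[R] S)) (e.toLinearMap.lTensor S z) ε =
        (cp Γ S ε).lTensor S z := by
      intro z ε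
      induction z using TensorProduct.induction_on with
      | zero => simp
      | add x y hx hy => simp only [map_add, Pi.add_apply, hx, hy]
      | tmul n z =>
        induction z using TensorProduct.induction_on with
        | zero => simp
        | add x y hx hy => simp only [TensorProduct.tmul_add, map_add, Pi.add_apply, hx, hy]
        | tmul n v => simp [e]
    have h2 : Function.Injective (e.toLinearMap.lTensor S) :=
      (LinearEquiv.lTensor S e).injective
    apply h2
    apply (TensorProduct.piRight R R S (fun _ : Γ => S ⊗[R] S)).injective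
    funext ε
    rw [h1, h1, hxy]
  apply hinj
  intro ε
  -- left hand side
  let F : S ⊗[R] S →ₐ[R] S ⊗[R] (S ⊗[R] S) := Algebra.TensorProduct.map (AlgHom.id R S) (p₁ R S)
  let F' : S ⊗[R] S →ₐ[R] S ⊗[R] (S ⊗[R] S) := Algebra.TensorProduct.map (AlgHom.id R S) (p₂ R S)
  have hF1 : F.comp (p₁ R S) = q₁ R S := by ext s; simp [F, Algebra.TensorProduct.one_def]
  have hF2 : F.comp (p₂ R S) = q₂ R S := by ext s; simp [F]
  have hF'1 : F'.comp (p₁ R S) = q₁ R S := by ext s; simp [F', Algebra.TensorProduct.one_def]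
  have hF'2 : F'.comp (p₂ R S) = q₃ R S := by ext s; simp [F']
  have hL : ∀ x : S ⊗[R] (Γ → S), (cp Γ S ε).lTensor S
      (((th g X Γ).restrictScalars R).lTensor S x) =
      ∑ β : Γ, (1 : S) ⊗ₜ[R] (cc g X (p₁ R S) (p₂ R S) (β : MulAut M)) * F (cp Γ S (β⁻¹ * ε) x) := by
    intro x
    induction x using TensorProduct.induction_on with
    | zero => simp
    | add x y hx hy => simp only [map_add, hx, hy, mul_add, Finset.sum_add_distrib]
    | tmul s v =>
      simp only [LinearMap.lTensor_tmul, LinearMap.coe_restrictScalars, cp_th, thc_apply, cp_tmul,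
        TensorProduct.tmul_sum]
      refine Finset.sum_congr rfl fun β _ => ?_
      simp [F]
  have hR : ∀ x : S ⊗[R] (Γ → S), (cp Γ S ε).lTensor S
      ((TensorProduct.mk R S (Γ → S) 1).lTensor S x) = F' (cp Γ S ε x) := by
    intro x
    induction x using TensorProduct.induction_on with
    | zero => simp
    | add x y hx hy => simp only [map_add, hx, hy]
    | tmul s v => simp [F']
  rw [hL, hR, cp_th, thc_apply, map_sum]
  have h5 : ∀ β : Γ, (1 : S) ⊗ₜ[R] (cc g X (p₁ R S) (p₂ R S) (β : MulAut M)) =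
      cc g X (q₂ R S) (q₃ R S) (β : MulAut M) := fun β => by
    rw [← map_cc]
    rfl
  have h6 : ∀ β : Γ, (1 : S) ⊗ₜ[R] (cc g X (p₁ R S) (p₂ R S) (β : MulAut M)) *
      F (cp Γ S (β⁻¹ * ε) (th g X Γ v)) =
      ∑ α : Γ, cc g X (q₁ R S) (q₂ R S) (α : MulAut M) * cc g X (q₂ R S) (q₃ R S) (β : MulAut M) *
        q₁ R S (v (α⁻¹ * (β⁻¹ * ε))) := by
    intro β
    rw [cp_th, thc_apply, map_sum, Finset.mul_sum, h5]
    refine Finset.sum_congr rfl fun α _ => ?_
    rw [map_mul, map_cc, hF1, hF2, ← AlgHom.comp_apply, hF1]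
    ring
  simp only [h6]
  have h7 : ∀ δ : Γ, F' (cc g X (p₁ R S) (p₂ R S) (δ : MulAut M) * p₁ R S (v (δ⁻¹ * ε))) =
      ∑ α : Γ, cc g X (q₁ R S) (q₂ R S) (α : MulAut M) *
        cc g X (q₂ R S) (q₃ R S) ((δ * α⁻¹ : Γ) : MulAut M) * q₁ R S (v (δ⁻¹ * ε)) := by
    intro δ
    rw [map_mul, map_cc, hF'1, hF'2, ← AlgHom.comp_apply, hF'1,
      ← sum_cc_mul_cc h X hX (q₁ R S) (q₂ R S) (q₃ R S) δ, Finset.sum_mul]
  simp only [h7]
  rw [Finset.sum_comm]
  conv_rhs => rw [Finset.sum_comm]
  refine Finset.sum_congr rfl fun α _ => ?_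
  refine Fintype.sum_equiv (Equiv.mulRight α) _ _ fun β => ?_
  have e1 : (β * α) * α⁻¹ = β := mul_inv_cancel_right β α
  have e2 : (β * α)⁻¹ * ε = α⁻¹ * (β⁻¹ * ε) := by rw [mul_inv_rev, mul_assoc]
  simp only [Equiv.coe_mulRight, e1, e2]

end

end Groth.Agent.RedSub.H666.IsoTors3
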