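import Groth.Agent.RedSub.H666.IsoTors3
import Groth.Agent.Sga3A.DiagPi
import Mathlib.RingTheory.Etale.Descent
import Mathlib.RingTheory.Etale.Pi

/-!
# Isotriviality of groups of multiplicative type with finite monodromy, part 4

The torsor algebra `EP` is finite étale and faithfully flat, and over it there is a basis of
group-like elements indexed by `M`, which locally differs from the given one by an element of `Γ`.
-/

set_option autoImplicit false

open TensorProduct

namespace Groth.Agent.RedSub.H666.IsoTors4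

open Groth.Agent.Sga3A Groth.Agent.Sga3A.MTBasis Groth.Agent.Sga3A.ModDesc IsoTors IsoTors2 IsoTors3

universe u

section pi

variable {R : Type*} [CommRing R] {B : Type*} [CommRing B] [Bialgebra R B]
  {ι : Type*} [Finite ι] {T : ι → Type*} [∀ i, CommRing (T i)] [∀ i, Algebra R (T i)]
  {X : Type*} [CommGroup X] (gi : ∀ i, GBasis (T i) (T i ⊗[R] B) X)

/-- A basis of group-like elements over a finite product. -/
noncomputable def piBasis : GBasis (∀ i, T i) ((∀ i, T i) ⊗[R] B) X :=
  GBasis.ofBialgEquiv (DiagPi.diagPi (fun i => (gi i).bialgEquiv.symm))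

lemma bc_piBasis (i : ι) (m : X) : bc B (Pi.evalAlgHom R T i) ((piBasis gi).b m) = (gi i).b m := by
  have h1 := DiagPi.proj_homTB (fun i => (gi i).bialgEquiv.symm) i ((piBasis gi).b m)
  have h2 : DiagPi.homTB (fun i => (gi i).bialgEquiv.symm) ((piBasis gi).b m) =
      MonoidAlgebra.single m 1 := by
    change DiagPi.diagPi (fun i => (gi i).bialgEquiv.symm) ((piBasis gi).b m) = _
    rw [piBasis, GBasis.ofBialgEquiv_b]
    exact (DiagPi.diagPi (fun i => (gi i).bialgEquiv.symm)).apply_symm_apply _
  rw [h2] at h1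
  have h3 : (gi i).bialgEquiv.symm ((gi i).b m) = MonoidAlgebra.single m 1 := by
    have h4 := (gi i).bialgEquiv_single m 1
    rw [one_smul] at h4
    rw [← h4]
    exact (gi i).bialgEquiv.symm_apply_apply _
  have h5 : DiagPi.proj T X i (MonoidAlgebra.single m 1) = MonoidAlgebra.single m 1 := by
    simp [DiagPi.proj]
  rw [h5, ← h3] at h1
  exact (EquivLike.injective (gi i).bialgEquiv.symm h1).symm

end pi

section

variable {R A S : Type u} [CommRing R] [CommRing A] [Bialgebra R A] [CommRing S] [Algebra R S]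
  {M : Type*} [CommGroup M] {g : GBasis S (S ⊗[R] A) M}
  (X : Finset M) {Γ : Subgroup (MulAut M)} [Fintype Γ]
  (h : Mono g Γ) (hX : Subgroup.closure (X : Set M) = ⊤)

variable (g Γ) in
/-- the coaction as a family over the one point type -/
noncomputable abbrev thU : ∀ _ _ : Unit, (Γ → S) →ₗ[S] S ⊗[R] (Γ → S) := fun _ _ => th g X Γ

include h hX in
lemma toV_bij [Module.Flat R S] :
    Function.Bijective (toV (R := R) (ι := Unit) (S := fun _ => S) (V := fun _ => (Γ → S))
      (thU g X Γ) ()) := by
  refine toV_bijective (R := R) (ι := Unit) (S := fun _ => S) (V := fun _ => (Γ → S))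
    (thU g X Γ) ?_ ?_ ()
  · intro _ v
    exact act_th (g := g) (Γ := Γ) X hX v
  · intro _ _ _ v
    exact co_th (g := g) (Γ := Γ) X h hX v

variable (g Γ) in
/-- `S ⊗ EP → (Γ → S)` -/
noncomputable def Tm : S ⊗[R] EP g X Γ →ₐ[S] (Γ → S) :=
  Algebra.TensorProduct.lift (Algebra.ofId S _) (EP g X Γ).val (fun _ _ => .all _ _)

omit [Fintype Γ] in
lemma Tm_tmul (s : S) (f : EP g X Γ) : Tm g X Γ (s ⊗ₜ f) = s • (f : Γ → S) := by
  simp [Tm, Algebra.ofId_apply, Algebra.smul_def]

include h hX in
lemma Tm_bijective [Module.Flat R S] : Function.Bijective (Tm g X Γ) := by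
  let e : EP g X Γ ≃ₗ[R] inv (R := R) (ι := Unit) (S := fun _ => S) (V := fun _ => (Γ → S))
      (thU g X Γ) :=
    { toFun := fun f => ⟨fun _ => f, fun _ _ => (th_eq_iff X h hX _).2 f.2⟩
      invFun := fun n => ⟨n.1 (), (th_eq_iff X h hX _).1 (n.2 () ())⟩
      left_inv := fun f => rfl
      right_inv := fun n => rfl
      map_add' := fun f f' => rfl
      map_smul' := fun r f => rfl }
  have h1 : ∀ z, Tm g X Γ z = toV (thU g X Γ) () ((e.toLinearMap.lTensor S) z) := by
    intro z
    induction z using TensorProduct.induction_on with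
    | zero => simp
    | add x y hx hy => simp only [map_add, hx, hy]
    | tmul s f =>
      rw [Tm_tmul]
      rfl
  have h2 : (Tm g X Γ : S ⊗[R] EP g X Γ → (Γ → S)) = toV (thU g X Γ) () ∘ (LinearEquiv.lTensor S e) :=
    funext h1
  rw [h2]
  exact (toV_bij X h hX).comp (LinearEquiv.lTensor S e).bijective

/-- `S ⊗ EP = (Γ → S)` -/
noncomputable def TmEquiv [Module.Flat R S] (h : Mono g Γ) (hX : Subgroup.closure (X : Set M) = ⊤) :
    S ⊗[R] EP g X Γ ≃ₐ[S] (Γ → S) :=
  AlgEquiv.ofBijective (Tm g X Γ) (Tm_bijective X h hX)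

variable [Module.FaithfullyFlat R S]

include h hX in
lemma etale_EP : Algebra.Etale R (EP g X Γ) := by
  have : Algebra.Etale S (Γ → S) := inferInstance
  have : Algebra.Etale S (S ⊗[R] EP g X Γ) := Algebra.Etale.of_equiv (TmEquiv X h hX).symm
  exact Algebra.Etale.of_etale_tensorProduct_of_faithfullyFlat S

include h hX in
lemma finite_EP : Module.Finite R (EP g X Γ) := by
  have : Module.Finite S (S ⊗[R] EP g X Γ) :=
    Module.Finite.of_surjective (TmEquiv X h hX).symm.toLinearEquiv.toLinearMap
      (TmEquiv X h hX).symm.surjective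
  exact Module.Finite.of_finite_tensorProduct_of_faithfullyFlat S

variable (g Γ) in
/-- `EP ⊗ S → (Γ → S)` -/
noncomputable def Tm' : EP g X Γ ⊗[R] S →ₐ[EP g X Γ] (Γ → S) :=
  Algebra.TensorProduct.lift (Algebra.ofId _ _) (Algebra.ofId S (Γ → S) |>.restrictScalars R)
    (fun _ _ => .all _ _)

lemma Tm'_tmul (f : EP g X Γ) (s : S) : Tm' g X Γ (f ⊗ₜ[R] s) = s • (f : Γ → S) := by
  have : Tm' g X Γ (f ⊗ₜ[R] s) = (f : Γ → S) * algebraMap S (Γ → S) s := by
    simp [Tm', Algebra.ofId_apply]
  rw [this, mul_comm, Algebra.smul_def]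

include h hX in
lemma Tm'_bijective : Function.Bijective (Tm' g X Γ) := by
  have h1 : (Tm' g X Γ : EP g X Γ ⊗[R] S → (Γ → S)) =
      Tm g X Γ ∘ TensorProduct.comm R (EP g X Γ) S := by
    funext z
    rw [Function.comp_apply]
    induction z using TensorProduct.induction_on with
    | zero => simp
    | add x y hx hy => simp only [map_add, hx, hy]
    | tmul f s => rw [Tm'_tmul, TensorProduct.comm_tmul, Tm_tmul]
  rw [h1]
  exact (Tm_bijective X h hX).comp (TensorProduct.comm R (EP g X Γ) S).bijective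

include h hX in
/-- `EP → (Γ → S)` is faithfully flat -/
lemma ff_EP_fun : Module.FaithfullyFlat (EP g X Γ) (Γ → S) :=
  Module.FaithfullyFlat.of_linearEquiv (EP g X Γ) (EP g X Γ ⊗[R] S)
    (LinearEquiv.ofBijective (Tm' g X Γ).toLinearMap (Tm'_bijective X h hX)).symm

include h hX in
lemma ff_EP : Module.FaithfullyFlat R (EP g X Γ) := by
  have := etale_EP X h hX
  have hfl : Module.Flat R (EP g X Γ) := inferInstance
  have h1 : Function.Surjective (PrimeSpectrum.comap (algebraMap R (Γ → S))) := by
    have h2 : algebraMap R (Γ → S) = (algebraMap S (Γ → S)).comp (algebraMap R S) := rfl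
    rw [h2, PrimeSpectrum.comap_comp]
    refine (PrimeSpectrum.comap_surjective_of_faithfullyFlat (A := R) (B := S)).comp ?_
    intro x
    refine ⟨PrimeSpectrum.comap (Pi.evalRingHom (fun _ : Γ => S) 1) x, ?_⟩
    rw [← PrimeSpectrum.comap_comp_apply]
    rfl
  apply Module.FaithfullyFlat.of_comap_surjective
  have h2 : algebraMap R (Γ → S) = (algebraMap (EP g X Γ) (Γ → S)).comp (algebraMap R (EP g X Γ)) :=
    rfl
  rw [h2, PrimeSpectrum.comap_comp] at h1
  exact h1.of_comp

end

end Groth.Agent.RedSub.H666.IsoTors4
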