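import Groth.Agent.Sga3B.BcTor144
import Groth.Agent.Sga3A.MTBasis

/-!
# From a basis of group-like elements to a splitting of the torus

`i : T ⟶ G` over `Spec R`, `T ≅ Spec B`, `G ≅ Spec A`, `i` given by `q : A → B`.  A basis of
group-like elements of `C ⊗ B` indexed by `M` gives an isomorphism `T_C ≅ D(M)` such that
`i_C` is given by `C ⊗ A → C ⊗ B ≅ C[M]`.
-/

set_option autoImplicit false
universe u
open CategoryTheory MonoidalCategory CartesianMonoidalCategory MonObj GrpObj AlgebraicGeometry Limits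
open scoped TensorProduct

namespace Groth.Agent.RedSub.H666.SpOf

open Groth.Agent.Books.AffBridge Groth.Agent.Books.DynBasic
open Groth.Agent.Sga3B Groth.Agent.Sga3B.DSPts Groth.Agent.Sga3B.AffPts Groth.Agent.Sga3B.DSAff
open Groth.Agent.Sga3B.BcSpec144 Groth.Agent.Sga3B.BcTor144
open Groth.Agent.Sga3A.MTBasis

section PB

variable {R : Type u} [CommRing R] {A B : Type u} [CommRing A] [HopfAlgebra R A]
  [CommRing B] [HopfAlgebra R B] {X : Type} [AddCommGroup X]

/-- the projection to the group algebra given by a basis of group-like elements -/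
noncomputable def toGA (b : GBasis R B (Multiplicative X)) :
    B →ₐc[R] MonoidAlgebra R (Multiplicative X) :=
  (b.bialgEquiv.symm : B →ₐc[R] MonoidAlgebra R (Multiplicative X))

lemma toGA_b (b : GBasis R B (Multiplicative X)) (m : Multiplicative X) :
    toGA b (b.b m) = MonoidAlgebra.single m 1 := by
  have h : b.bialgEquiv (MonoidAlgebra.single m (1 : R)) = b.b m := by
    rw [GBasis.bialgEquiv_single, one_smul]
  change b.bialgEquiv.symm (b.b m) = _
  rw [← h, BialgEquiv.symm_apply_apply]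

lemma toGA_bialgEquiv (b : GBasis R B (Multiplicative X)) (z : MonoidAlgebra R (Multiplicative X)) :
    toGA b (b.bialgEquiv z) = z := BialgEquiv.symm_apply_apply _ _

lemma bialgEquiv_toGA (b : GBasis R B (Multiplicative X)) (z : B) :
    b.bialgEquiv (toGA b z) = z := BialgEquiv.apply_symm_apply _ _

end PB

section Zero

variable {R : Type u} [CommRing R] {A B : Type u} [CommRing A] [HopfAlgebra R A]
  [CommRing B] [HopfAlgebra R B] {X : Type} [AddCommGroup X]
variable {G T : Over (Spec (CommRingCat.of R))} [GrpObj G] [GrpObj T]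

/-- a bialgebra equivalence as an isomorphism of schemes -/
noncomputable def specIso {B' : Type u} [CommRing B'] [HopfAlgebra R B'] (θ : B' ≃ₐc[R] B) :
    SpecOver R B ≅ SpecOver R B' where
  hom := specMap R ((θ : B' →ₐc[R] B) : B' →ₐ[R] B)
  inv := specMap R ((θ.symm : B →ₐc[R] B') : B →ₐ[R] B')
  hom_inv_id := by
    rw [← specMap_comp, ← specMap_id]
    congr 1
    ext x
    exact BialgEquiv.apply_symm_apply θ x
  inv_hom_id := by
    rw [← specMap_comp, ← specMap_id]
    congr 1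
    ext x
    exact BialgEquiv.symm_apply_apply θ x

instance {B' : Type u} [CommRing B'] [HopfAlgebra R B'] (θ : B' ≃ₐc[R] B) :
    IsMonHom (specIso θ).hom := isMonHom_specMap R (θ : B' →ₐc[R] B)

/-- `T ≅ D(X)` from a basis of group-like elements. -/
noncomputable def isoDS (eT : T ≅ SpecOver R B) (b : GBasis R B (Multiplicative X)) :
    T ≅ Red.DS (Spec (CommRingCat.of R)) X :=
  eT ≪≫ specIso b.bialgEquiv ≪≫ (asIso (dsTo R X)).symm

lemma isoDS_hom (eT : T ≅ SpecOver R B) (b : GBasis R B (Multiplicative X)) :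
    (isoDS eT b).hom ≫ dsTo R X =
      eT.hom ≫ specMap R ((b.bialgEquiv : MonoidAlgebra R (Multiplicative X) →ₐc[R] B) :
        MonoidAlgebra R (Multiplicative X) →ₐ[R] B) := by
  change (eT.hom ≫ specMap R ((b.bialgEquiv : MonoidAlgebra R (Multiplicative X) →ₐc[R] B) :
        MonoidAlgebra R (Multiplicative X) →ₐ[R] B) ≫
    CategoryTheory.inv (dsTo R X)) ≫ dsTo R X = _
  rw [Category.assoc, Category.assoc, IsIso.inv_hom_id, Category.comp_id]

instance (eT : T ≅ SpecOver R B) [IsMonHom eT.hom] (b : GBasis R B (Multiplicative X)) :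
    IsMonHom (isoDS eT b).hom := by
  have h1 : (isoDS eT b).hom = eT.hom ≫ (specIso b.bialgEquiv).hom ≫ dsFrom R X := by
    rw [← cancel_mono (dsTo R X), isoDS_hom, Category.assoc, Category.assoc, dsFrom_dsTo,
      Category.comp_id]
    rfl
  rw [h1]
  infer_instance

/-- the splitting of the torus, as an isomorphism of groups -/
noncomputable def spOf (eT : T ≅ SpecOver R B) [IsMonHom eT.hom]
    (b : GBasis R B (Multiplicative X)) :
    Grp.mk T ≅ Grp.mk (Red.DS (Spec (CommRingCat.of R)) X) :=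
  Grp.mkIso' (isoDS eT b)

lemma spOf_hom (eT : T ≅ SpecOver R B) [IsMonHom eT.hom] (b : GBasis R B (Multiplicative X)) :
    (spOf eT b).hom.hom.hom = (isoDS eT b).hom := rfl

theorem hp_spOf (i : T ⟶ G) (eT : T ≅ SpecOver R B) [IsMonHom eT.hom] (e : G ≅ SpecOver R A)
    (q : A →ₐc[R] B) (hq : i ≫ e.hom = eT.hom ≫ specMap R (q : A →ₐ[R] B))
    (b : GBasis R B (Multiplicative X)) (Y : Over (Spec (CommRingCat.of R))) (t : Y ⟶ T) :
    t ≫ i ≫ e.hom = affPt Y ((chAlg (fnChar (t ≫ (spOf eT b).hom.hom.hom))).comp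
      (((toGA b).comp q : A →ₐc[R] _) : A →ₐ[R] _)) := by
  have h1 : t ≫ eT.hom = affPt Y ((chAlg (fnChar (t ≫ (spOf eT b).hom.hom.hom))).comp
      ((toGA b : B →ₐc[R] _) : B →ₐ[R] _)) := by
    rw [← affPt_specMap, ← comp_dsTo, spOf_hom, Category.assoc, Category.assoc,
      ← Category.assoc (isoDS eT b).hom, isoDS_hom, Category.assoc, ← specMap_comp]
    have : (((b.bialgEquiv : MonoidAlgebra R (Multiplicative X) →ₐc[R] B) :
        MonoidAlgebra R (Multiplicative X) →ₐ[R] B)).comp ((toGA b : B →ₐc[R] _) : B →ₐ[R] _) =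
        AlgHom.id R B := by
      ext z
      exact bialgEquiv_toGA b z
    rw [this, specMap_id, Category.comp_id]
  rw [hq, ← Category.assoc, h1, affPt_specMap]
  rfl

end Zero

section Bc

variable {R : Type u} [CommRing R] {A B : Type u} [CommRing A] [HopfAlgebra R A]
  [CommRing B] [HopfAlgebra R B]
variable {G T : Over (Spec (CommRingCat.of R))} [GrpObj G] [GrpObj T]
variable (C : Type u) [CommRing C] [Algebra R C]

/-- naturality of `bsIso` -/
lemma bsIso_naturality (q : A →ₐc[R] B) :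
    (Over.pullback (fK R C)).map (specMap R (q : A →ₐ[R] B)) ≫ (bsIso R C A).hom =
      (bsIso R C B).hom ≫ specMap C ((Sga3A.BCIso.mapBialg C q : C ⊗[R] A →ₐc[C] C ⊗[R] B) :
        C ⊗[R] A →ₐ[C] C ⊗[R] B) := by
  rw [← cancel_epi (bsIso R C B).inv, Iso.inv_hom_id_assoc]
  -- compute on the universal point
  have h1 : (bsIso R C B).inv = bsHom R C B := rfl
  rw [h1]
  have h2 : bsHom R C B = affPt _ ((fnSpec (R := C) (C ⊗[R] B)).symm.toAlgHom) ≫ bsHom R C B := by
    rw [affPt_spec]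
    have : (fnSpec (R := C) (C ⊗[R] B)).toAlgHom.comp
        (fnSpec (R := C) (C ⊗[R] B)).symm.toAlgHom = AlgHom.id C _ := by
      ext; simp
    rw [this, specMap_id, Category.id_comp]
  have h3 : specMap C ((Sga3A.BCIso.mapBialg C q : C ⊗[R] A →ₐc[C] C ⊗[R] B) :
        C ⊗[R] A →ₐ[C] C ⊗[R] B) = affPt _ (((fnSpec (R := C) (C ⊗[R] B)).symm.toAlgHom).comp
          ((Sga3A.BCIso.mapBialg C q : C ⊗[R] A →ₐc[C] C ⊗[R] B) : C ⊗[R] A →ₐ[C] C ⊗[R] B)) := by
    rw [affPt_spec, ← AlgHom.comp_assoc]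
    have : (fnSpec (R := C) (C ⊗[R] B)).toAlgHom.comp
        (fnSpec (R := C) (C ⊗[R] B)).symm.toAlgHom = AlgHom.id C _ := by
      ext; simp
    rw [this, AlgHom.id_comp]
  rw [h3, h2, affPt_bsHom]
  rw [bsPt, ← Category.assoc, DSPts.bcEquiv_comp, affPt_specMap]
  refine bcEquiv_bsIso _ (WithConv.toConv _) _ ?_
  rfl

variable (i : T ⟶ G) (eT : T ≅ SpecOver R B) (e : G ≅ SpecOver R A) (q : A →ₐc[R] B)

omit [GrpObj G] [GrpObj T] in
theorem map_comp_eK (hq : i ≫ e.hom = eT.hom ≫ specMap R (q : A →ₐ[R] B)) :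
    (Over.pullback (fK R C)).map i ≫ (eK C e).hom =
      (eK C eT).hom ≫ specMap C ((Sga3A.BCIso.mapBialg C q : C ⊗[R] A →ₐc[C] C ⊗[R] B) :
        C ⊗[R] A →ₐ[C] C ⊗[R] B) := by
  have h1 : (Over.pullback (fK R C)).map i ≫ (eK C e).hom =
      (Over.pullback (fK R C)).map (i ≫ e.hom) ≫ (bsIso R C A).hom := by
    rw [Functor.map_comp, Category.assoc]; rfl
  have h2 : (eK C eT).hom = (Over.pullback (fK R C)).map eT.hom ≫ (bsIso R C B).hom := rfl
  rw [h1, hq, Functor.map_comp, Category.assoc, bsIso_naturality, h2, Category.assoc]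

end Bc

end Groth.Agent.RedSub.H666.SpOf
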