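import Mathlib.LinearAlgebra.RootSystem.WeylGroup
import Mathlib.LinearAlgebra.RootSystem.Finite.Nondegenerate

/-!
# Finiteness of the Weyl group of a root datum

The set of endomorphisms of the weight lattice which are products of reflections is finite.
-/

set_option autoImplicit false

namespace Groth.Agent.RedSub.H666.WeylFin

variable {idx M N : Type*} [AddCommGroup M] [AddCommGroup N]
  (P : RootPairing idx ℤ M N)

/-- a product of reflections -/
def wd (l : List idx) : M →+ M :=
  l.foldr (fun a f => ((P.reflection a).toLinearMap.toAddMonoidHom).comp f) (AddMonoidHom.id M)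

lemma wd_nil : wd P [] = AddMonoidHom.id M := rfl

lemma wd_cons (a : idx) (l : List idx) (m : M) : wd P (a :: l) m = P.reflection a (wd P l m) := rfl

/-- the action on the roots -/
def wi : List idx → Equiv.Perm idx
  | [] => 1
  | a :: l => P.reflectionPerm a * wi l

lemma wd_root (l : List idx) (b : idx) : wd P l (P.root b) = P.root (wi P l b) := by
  induction l with
  | nil => rfl
  | cons a l ih =>
    rw [wd_cons, ih]
    exact (P.root_reflectionPerm a _).symm

lemma wd_sub_mem (l : List idx) (m : M) : wd P l m - m ∈ P.rootSpan ℤ := by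
  induction l with
  | nil => rw [wd_nil, AddMonoidHom.id_apply, sub_self]; exact zero_mem _
  | cons a l ih =>
    have h : wd P (a :: l) m - m = (wd P l m - m) -
        P.toLinearMap (wd P l m) (P.coroot a) • P.root a := by
      rw [wd_cons, RootPairing.reflection_apply]
      change wd P l m - P.toLinearMap (wd P l m) (P.coroot a) • P.root a - m = _
      abel
    rw [h]
    exact sub_mem ih (Submodule.smul_mem _ _ (Submodule.subset_span ⟨a, rfl⟩))

lemma wd_form [Fintype idx] (l : List idx) (x y : M) :
    P.RootForm (wd P l x) (wd P l y) = P.RootForm x y := by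
  induction l with
  | nil => rfl
  | cons a l ih => rw [wd_cons, wd_cons, P.rootForm_reflection_reflection_apply, ih]

variable [Finite idx]

/-- a word is determined by its action on the roots -/
lemma wd_eq_of_wi_eq {l l' : List idx} (h : wi P l = wi P l') : wd P l = wd P l' := by
  have := Fintype.ofFinite idx
  ext m
  have h1 : wd P l m - wd P l' m ∈ P.rootSpan ℤ := by
    have := sub_mem (wd_sub_mem P l m) (wd_sub_mem P l' m)
    rwa [sub_sub_sub_cancel_right] at this
  have h2 : ∀ b, P.RootForm (wd P l m - wd P l' m) (P.root b) = 0 := by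
    intro b
    obtain ⟨c, rfl⟩ := (wi P l).surjective b
    have h3 : wi P l c = wi P l' c := by rw [h]
    rw [map_sub, LinearMap.sub_apply]
    conv_lhs => rw [← wd_root, wd_form]
    rw [wd_root, h3, ← wd_root, wd_form, sub_self]
  have h3 : P.RootForm (wd P l m - wd P l' m) (wd P l m - wd P l' m) = 0 := by
    generalize wd P l m - wd P l' m = z at h1 h2 ⊢
    have h4 : ∀ w ∈ P.rootSpan ℤ, P.RootForm z w = 0 := by
      intro w hw
      induction hw using Submodule.span_induction with
      | mem w hw =>
        obtain ⟨b, rfl⟩ := hw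
        exact h2 b
      | zero => exact map_zero _
      | add x y _ _ hx hy => rw [map_add, hx, hy, add_zero]
      | smul r x _ hx => rw [map_smul, hx, smul_zero]
    exact h4 z h1
  exact sub_eq_zero.1 (P.eq_zero_of_mem_rootSpan_of_rootForm_self_eq_zero h1 h3)

/-- **Finiteness of the Weyl group.** -/
theorem finite_words :
    Set.Finite {θ : M →+ M | ∃ l : List idx, θ =
      l.foldr (fun a f => ((P.reflection a).toLinearMap.toAddMonoidHom).comp f)
        (AddMonoidHom.id M)} := by
  have h1 : {θ : M →+ M | ∃ l : List idx, θ =
      l.foldr (fun a f => ((P.reflection a).toLinearMap.toAddMonoidHom).comp f)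
        (AddMonoidHom.id M)} = Set.range (wd P) := by
    ext θ
    constructor
    · rintro ⟨l, rfl⟩; exact ⟨l, rfl⟩
    · rintro ⟨l, rfl⟩; exact ⟨l, rfl⟩
  rw [h1]
  have h2 : Finite (Set.range (wi P)) := inferInstance
  choose s hs using fun w : Set.range (wi P) => w.2
  refine (Set.finite_range (fun w : Set.range (wi P) => wd P (s w))).subset ?_
  rintro _ ⟨l, rfl⟩
  exact ⟨⟨wi P l, l, rfl⟩, wd_eq_of_wi_eq P (hs ⟨wi P l, l, rfl⟩)⟩

end Groth.Agent.RedSub.H666.WeylFin
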