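import Groth.Agent.RedSub.H666.SpOf
import Groth.Agent.Sga3B.CertTr885
import Groth.Agent.Sga3B.RootNhd136
import Groth.Agent.Sga3B.RG.QCDict

/-!
# The roots with respect to a basis of group-like elements

`q : A → B` a map of Hopf algebras over `R`, `b` a basis of group-like elements of `C ⊗ B`
indexed by `X`: `pB q b : C ⊗ A → C[X]`; `HasWts q b Φ`: the set of roots at all geometric
points of `C` is `Φ ⊆ X`.
-/

set_option autoImplicit false
universe u
open scoped TensorProduct
open WithConv

namespace Groth.Agent.RedSub.H666.WtB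

open Groth.Agent.Sga3A.MTBasis Groth.Agent.RedSub.H666.SpOf Groth.Agent.Sga3A
open Groth.Agent.Sga3B Groth.Agent.Sga3B.RootCoact Groth.Agent.Sga3B.RootOrb Groth.Agent.Sga3B.RootGr
open Groth.Agent.Sga3B.RootCert Groth.Agent.Sga3B.RootBC136 Groth.Agent.Sga3B.RootWt136
open Groth.Agent.Sga3B.RootFinal136

variable {R : Type u} [CommRing R] {A B : Type u} [CommRing A] [HopfAlgebra R A]
  [CommRing B] [HopfAlgebra R B] (q : A →ₐc[R] B)

section Defs

variable {C : Type u} [CommRing C] [Algebra R C] {X Y : Type} [AddCommGroup X] [AddCommGroup Y]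

/-- the projection to the group algebra given by a basis of group-like elements -/
noncomputable def pB (b : GBasis C (C ⊗[R] B) (Multiplicative X)) :
    C ⊗[R] A →ₐc[C] MonoidAlgebra C (Multiplicative X) :=
  (toGA b).comp (BCIso.mapBialg C q)

lemma bialgEquiv_pB (b : GBasis C (C ⊗[R] B) (Multiplicative X)) (z : C ⊗[R] A) :
    b.bialgEquiv (pB q b z) = BCIso.mapBialg C q z := bialgEquiv_toGA _ _

lemma mapBialg_bc {C' : Type u} [CommRing C'] [Algebra R C'] (φ : C →ₐ[R] C') (z : C ⊗[R] A) :
    BCIso.mapBialg C' q (bc A φ z) = bc B φ (BCIso.mapBialg C q z) := by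
  induction z using TensorProduct.induction_on with
  | zero => simp only [map_zero]
  | add x y hx hy => rw [map_add, map_add, map_add, map_add, hx, hy]
  | tmul c a => rw [bc_tmul, BCIso.mapBialg_tmul, BCIso.mapBialg_tmul, bc_tmul]

lemma bialgEquiv_bc {C' : Type u} [CommRing C'] [Algebra R C'] (φ : C →ₐ[R] C')
    (b : GBasis C (C ⊗[R] B) (Multiplicative X)) (z : MonoidAlgebra C (Multiplicative X)) :
    (b.bc φ).bialgEquiv (MonoidAlgebra.mapRingHom (Multiplicative X) (φ : C →+* C') z) =
      bc B φ (b.bialgEquiv z) := by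
  induction z using MonoidAlgebra.induction_linear with
  | zero => simp only [map_zero]
  | add x y hx hy => rw [map_add, map_add, map_add, map_add, hx, hy]
  | single m c =>
    rw [MonoidAlgebra.mapRingHom_single, GBasis.bialgEquiv_single, GBasis.bialgEquiv_single,
      bc_smul, GBasis.bc_b]
    rfl

lemma pB_bc {C' : Type u} [CommRing C'] [Algebra R C'] (φ : C →ₐ[R] C')
    (b : GBasis C (C ⊗[R] B) (Multiplicative X)) (z : C ⊗[R] A) :
    pB q (b.bc φ) (bc A φ z) =
      MonoidAlgebra.mapRingHom (Multiplicative X) (φ : C →+* C') (pB q b z) := by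
  apply EquivLike.injective (b.bc φ).bialgEquiv
  rw [bialgEquiv_pB, bialgEquiv_bc, bialgEquiv_pB, mapBialg_bc]

variable (K : Type u) [CommRing K] [Algebra R K] [Algebra C K] [IsScalarTower R C K]

lemma pB_cancel (b : GBasis C (C ⊗[R] B) (Multiplicative X)) (z : K ⊗[C] (C ⊗[R] A)) :
    pB q (b.bc (IsScalarTower.toAlgHom R C K)) (BCIso.cancelBialg R C K A z) =
      bcP K (pB q b) z := by
  induction z using TensorProduct.induction_on with
  | zero => simp only [map_zero]
  | add x y hx hy => rw [map_add, map_add, map_add, hx, hy]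
  | tmul k w =>
    have h1 : BCIso.cancelBialg R C K A (k ⊗ₜ[C] w) =
        k • bc A (IsScalarTower.toAlgHom R C K) w := by
      induction w using TensorProduct.induction_on with
      | zero => simp
      | add x y hx hy => rw [TensorProduct.tmul_add, map_add, map_add, smul_add, hx, hy]
      | tmul c a =>
        rw [BCIso.cancelBialg_tmul, bc_tmul, TensorProduct.smul_tmul']
        rfl
    rw [h1, map_smul, pB_bc, bcP_tmul]
    rfl

/-- the roots do not change -/
lemma isWt_pB_bc (b : GBasis C (C ⊗[R] B) (Multiplicative X)) (m : X) :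
    IsWt (pB q (b.bc (IsScalarTower.toAlgHom R C K))) m ↔ IsWt (bcP K (pB q b)) m :=
  CertTr885.isWt_iff (BCIso.cancelBialg R C K A) (pB_cancel q K b) m

end Defs

section Reindex

variable {C : Type u} [CommRing C] {A : Type u} [CommRing A] [HopfAlgebra C A]
  {X Y : Type} [AddCommGroup X] [AddCommGroup Y]
  (p : A →ₐc[C] MonoidAlgebra C (Multiplicative X)) (f : X ≃+ Y)

lemma mem_gr_mapD (m : X) (a : A) :
    a ∈ gr (conjCoact ((Groth.Agent.Sga3B.RG.QC.mapD (f : X →+ Y)).comp p)) (f m) ↔ a ∈ gr (conjCoact p) m := by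
  constructor
  · intro h
    have h1 := Groth.Agent.Sga3B.RG.QC.gr_le_comp ((Groth.Agent.Sga3B.RG.QC.mapD (f : X →+ Y)).comp p) (f.symm : Y →+ X) h
    have h2 : (Groth.Agent.Sga3B.RG.QC.mapD (R := C) (f.symm : Y →+ X)).comp
        ((Groth.Agent.Sga3B.RG.QC.mapD (f : X →+ Y)).comp p) = p := by
      refine DFunLike.ext _ _ fun a => ?_
      change (Groth.Agent.Sga3B.RG.QC.mapD (R := C) (f.symm : Y →+ X)) (Groth.Agent.Sga3B.RG.QC.mapD (f : X →+ Y) (p a)) = p a
      generalize p a = z
      induction z using MonoidAlgebra.induction_linear with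
      | zero => simp only [map_zero]
      | add x y hx hy => rw [map_add, map_add, hx, hy]
      | single m c =>
        rw [Groth.Agent.Sga3B.RG.QC.mapD_single, Groth.Agent.Sga3B.RG.QC.mapD_single]
        congr 1
        exact f.symm_apply_apply _
    rw [h2] at h1
    have h3 : (f.symm : Y →+ X) (f m) = m := f.symm_apply_apply m
    rwa [h3] at h1
  · intro h
    exact Groth.Agent.Sga3B.RG.QC.gr_le_comp p (f : X →+ Y) h

lemma isWt_mapD (m : X) :
    IsWt ((Groth.Agent.Sga3B.RG.QC.mapD (f : X →+ Y)).comp p) (f m) ↔ IsWt p m := by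
  constructor
  · rintro ⟨x, h1, h2, h3⟩
    exact ⟨x, (mem_gr_mapD p f m x).1 h1, h2, h3⟩
  · rintro ⟨x, h1, h2, h3⟩
    exact ⟨x, (mem_gr_mapD p f m x).2 h1, h2, h3⟩

end Reindex

section Reindex2

variable {C : Type u} [CommRing C] [Algebra R C] {X Y : Type} [AddCommGroup X] [AddCommGroup Y]

lemma pB_reindex (b : GBasis C (C ⊗[R] B) (Multiplicative X)) (f : X ≃+ Y) :
    pB q (b.reindex (AddEquiv.toMultiplicative f)) =
      (Groth.Agent.Sga3B.RG.QC.mapD (f : X →+ Y)).comp (pB q b) := by
  refine DFunLike.ext _ _ fun z => ?_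
  apply EquivLike.injective (b.reindex (AddEquiv.toMultiplicative f)).bialgEquiv
  rw [bialgEquiv_pB, ← bialgEquiv_pB q b]
  change _ = (b.reindex (AddEquiv.toMultiplicative f)).bialgEquiv
    (Groth.Agent.Sga3B.RG.QC.mapD (f : X →+ Y) (pB q b z))
  generalize pB q b z = w
  induction w using MonoidAlgebra.induction_linear with
  | zero => simp only [map_zero]
  | add x y hx hy => rw [map_add, map_add, map_add, hx, hy]
  | single m c =>
    rw [Groth.Agent.Sga3B.RG.QC.mapD_single, GBasis.bialgEquiv_single, GBasis.bialgEquiv_single,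
      GBasis.reindex_b]
    congr 2
    exact ((AddEquiv.toMultiplicative f).symm_apply_apply m).symm

lemma isWt_reindex (b : GBasis C (C ⊗[R] B) (Multiplicative X)) (f : X ≃+ Y) (m : X) :
    IsWt (pB q (b.reindex (AddEquiv.toMultiplicative f))) (f m) ↔ IsWt (pB q b) m := by
  rw [pB_reindex, isWt_mapD]

lemma bc_reindex {C' : Type u} [CommRing C'] [Algebra R C'] (φ : C →ₐ[R] C')
    (b : GBasis C (C ⊗[R] B) (Multiplicative X)) {Z : Type*} [CommGroup Z]
    (f : Multiplicative X ≃* Z) :
    (b.reindex f).bc φ = (b.bc φ).reindex f := by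
  have h : ∀ m, ((b.reindex f).bc φ).b m = ((b.bc φ).reindex f).b m := by
    intro m
    rw [GBasis.bc_b, GBasis.reindex_b, GBasis.reindex_b, GBasis.bc_b]
  generalize (b.reindex f).bc φ = x at h ⊢
  generalize (b.bc φ).reindex f = y at h ⊢
  cases x
  cases y
  congr 1
  exact Module.Basis.eq_of_apply_eq h

end Reindex2

end Groth.Agent.RedSub.H666.WtB
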